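import Cfsg.Agent.Lib.Helper11.Out.Rigid

/-!
# The centraliser of an element with a single fixed point, from a permutation model
-/

set_option autoImplicit false

namespace Cfsg.Agent.Lib.Helper11.Out

open Cfsg.Agent.Lib.Helper11 Cfsg.Agent.Lib.Helper11.SylEA

/-- `wordPerm (y^k ++ u) 0 = r`, `wordPerm u s = r`, `wordPerm [t] s = s'` -/
noncomputable def qChk (NT : ℕ → List (ℕ × ℕ)) (yl tl Lmax : ℕ) (u : List ℕ) (k r s s' : ℕ) : Bool :=
  u.all (fun l => decide (l < Lmax)) &&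
  (Nat.beq (applyWord NT (List.replicate k yl ++ u) (Nat.pow 2 r)) (Nat.pow 2 0) &&
  (Nat.beq (applyWord NT u (Nat.pow 2 r)) (Nat.pow 2 s) &&
  Nat.beq (applyWord NT [tl] (Nat.pow 2 s')) (Nat.pow 2 s)))

/-- the check excluding one candidate `(q, u, k, r, s, s')` -/
noncomputable def exChk (NT : ℕ → List (ℕ × ℕ)) (yl tl Lmax : ℕ) (uP : List ℕ)
    (pc : ℕ → ℕ × ℕ × ℕ) (c : ℕ × List ℕ × ℕ × ℕ × ℕ × ℕ) : Bool :=
  Nat.beq (applyWord NT c.2.1 (Nat.pow 2 c.1)) (Nat.pow 2 0) &&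
  (qChk NT yl tl Lmax c.2.1 c.2.2.1 c.2.2.2.1 c.2.2.2.2.1 c.2.2.2.2.2 &&
  (qChk NT yl tl Lmax uP c.2.2.1 (pc c.2.2.1).1 (pc c.2.2.1).2.1 (pc c.2.2.1).2.2 &&
  (Nat.beq c.2.2.2.2.2 c.2.2.2.2.1 != Nat.beq (pc c.2.2.1).2.2 (pc c.2.2.1).2.1)))

/-- the set of the representatives -/
noncomputable def seedMask (M0 : ℕ) : List (ℕ × List ℕ × ℕ × ℕ × ℕ × ℕ) → ℕ
  | [] => M0
  | c :: L => Nat.lor (Nat.pow 2 c.1) (seedMask M0 L)

theorem seedMask_spec (M0 : ℕ) : ∀ (L : List (ℕ × List ℕ × ℕ × ℕ × ℕ × ℕ)) (z : ℕ),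
    (seedMask M0 L).testBit z = true → M0.testBit z = true ∨ ∃ c ∈ L, c.1 = z
  | [], z, h => Or.inl h
  | c :: L, z, h => by
    have h' : ((2 ^ c.1) ||| seedMask M0 L).testBit z = true := h
    rw [Nat.testBit_or, Bool.or_eq_true, Nat.testBit_two_pow] at h'
    rcases h' with h' | h'
    · exact Or.inr ⟨c, List.mem_cons_self, by simpa using h'⟩
    · rcases seedMask_spec M0 L z h' with h2 | ⟨c', hc', e⟩
      · exact Or.inl h2
      · exact Or.inr ⟨c', List.mem_cons_of_mem _ hc', e⟩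

section

variable {G : Type*} [Group G]

theorem comm_transport (x Y T T' : G) (hx : x * Y = Y * x) (hT : x * T * x⁻¹ = T') :
    T * (Y * T * Y⁻¹) = (Y * T * Y⁻¹) * T ↔ T' * (Y * T' * Y⁻¹) = (Y * T' * Y⁻¹) * T' := by
  subst hT
  have e : Y * (x * T * x⁻¹) * Y⁻¹ = x * (Y * T * Y⁻¹) * x⁻¹ := by
    calc Y * (x * T * x⁻¹) * Y⁻¹ = (Y * x) * T * (Y * x)⁻¹ := by group
      _ = (x * Y) * T * (x * Y)⁻¹ := by rw [hx]
      _ = _ := by group
  rw [e]
  generalize Y * T * Y⁻¹ = A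
  constructor
  · intro h
    calc x * T * x⁻¹ * (x * A * x⁻¹) = x * (T * A) * x⁻¹ := by group
      _ = x * (A * T) * x⁻¹ := by rw [h]
      _ = _ := by group
  · intro h
    have h2 : x * (T * A) * x⁻¹ = x * (A * T) * x⁻¹ := by
      calc x * (T * A) * x⁻¹ = x * T * x⁻¹ * (x * A * x⁻¹) := by group
        _ = x * A * x⁻¹ * (x * T * x⁻¹) := h
        _ = _ := by group
    exact mul_left_cancel (mul_right_cancel h2)

variable (ψ : G →* Equiv.Perm ℕ) (t₀ : G) (hdict : ∀ g, ψ g 0 = 0 ↔ g * t₀ = t₀ * g)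

include hdict

theorem Fp_iff (g Y : G) : (ψ t₀ (ψ (g⁻¹ * Y * g) 0) = ψ (g⁻¹ * Y * g) 0) ↔
    (g * t₀ * g⁻¹) * (Y * (g * t₀ * g⁻¹) * Y⁻¹) = (Y * (g * t₀ * g⁻¹) * Y⁻¹) * (g * t₀ * g⁻¹) := by
  rw [← comm_iff_fix ψ t₀ hdict t₀ (g⁻¹ * Y * g)]
  have e1 : (g * t₀ * g⁻¹) * (Y * (g * t₀ * g⁻¹) * Y⁻¹) =
      g * (t₀ * ((g⁻¹ * Y * g) * t₀ * (g⁻¹ * Y * g)⁻¹)) * g⁻¹ := by group
  have e2 : (Y * (g * t₀ * g⁻¹) * Y⁻¹) * (g * t₀ * g⁻¹) =
      g * (((g⁻¹ * Y * g) * t₀ * (g⁻¹ * Y * g)⁻¹) * t₀) * g⁻¹ := by group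
  rw [e1, e2]
  constructor
  · intro h; rw [h]
  · intro h; exact mul_left_cancel (mul_right_cancel h)

variable (NT : ℕ → List (ℕ × ℕ)) (kk : ℕ)
  (hNT : ∀ l, ∀ st ∈ NT l, stOK (2 ^ (2 ^ kk)) st = true)
  (Lmax : ℕ) (hrange : ∀ l < Lmax, netPerm (NT l) ∈ ψ.range)

include hNT hrange

theorem qChk_spec (yl tl : ℕ) (hyl : yl < Lmax) (htl : tl < Lmax) (ht : gam ψ NT tl = t₀)
    (u : List ℕ) (k r s s' : ℕ) (h : qChk NT yl tl Lmax u k r s s' = true) :
    (ψ t₀ (ψ (((u.map (gam ψ NT)).prod)⁻¹ * (gam ψ NT yl) ^ k * (u.map (gam ψ NT)).prod) 0) =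
      ψ (((u.map (gam ψ NT)).prod)⁻¹ * (gam ψ NT yl) ^ k * (u.map (gam ψ NT)).prod) 0) ↔ s' = s := by
  unfold qChk at h
  simp only [Bool.and_eq_true, List.all_eq_true, decide_eq_true_eq] at h
  obtain ⟨hu, h1, h2, h3⟩ := h
  have hk : ∀ l ∈ List.replicate k yl ++ u, l < Lmax := by
    intro l hl
    rcases List.mem_append.1 hl with hl | hl
    · rw [List.eq_of_mem_replicate hl]; exact hyl
    · exact hu l hl
  have e1 := wordPerm_valS _ NT hNT _ _ _ h1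
  have e2 := wordPerm_valS _ NT hNT _ _ _ h2
  have e3 := wordPerm_valS _ NT hNT _ _ _ h3
  rw [← psi_wd ψ NT Lmax hrange _ hk, List.map_append, List.prod_append, List.map_replicate,
    List.prod_replicate] at e1
  rw [← psi_wd ψ NT Lmax hrange _ hu] at e2
  rw [← psi_wd ψ NT Lmax hrange [tl] (by simpa using htl)] at e3
  simp only [List.map_cons, List.map_nil, List.prod_cons, List.prod_nil, mul_one] at e3
  rw [ht] at e3
  have e4 : ψ (((u.map (gam ψ NT)).prod)⁻¹ * (gam ψ NT yl) ^ k * (u.map (gam ψ NT)).prod) 0 = s := by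
    rw [mul_assoc, map_mul, Equiv.Perm.mul_apply, e1, map_inv, Equiv.Perm.inv_eq_iff_eq, e2]
  rw [e4, e3]

variable (n : ℕ) (hn : n ≤ 2 ^ kk) (hlt : ∀ g : G, ψ g 0 < n)
  (hfaith : ∀ g : G, (∀ p < n, ψ g p = p) → g = 1)

include hn hlt hfaith

theorem cent_class (yl tl Tl : ℕ) (hyl : yl < Lmax) (htl : tl < Lmax) (hTl : Tl < Lmax)
    (ht : gam ψ NT tl = t₀) (p p' : ℕ) (hp0 : p ≠ 0) (uP : List ℕ) (huP : ∀ l ∈ uP, l < Lmax)
    (hp : Nat.beq (applyWord NT uP (Nat.pow 2 p)) (Nat.pow 2 0) = true)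
    (hp' : Nat.beq (applyWord NT [tl] (Nat.pow 2 p')) (Nat.pow 2 p) = true)
    (hT : gam ψ NT Tl = (uP.map (gam ψ NT)).prod * t₀ * ((uP.map (gam ψ NT)).prod)⁻¹)
    (hy0 : Nat.beq (applyWord NT [yl] (Nat.pow 2 0)) (Nat.pow 2 0) = true)
    (hmv : Nat.beq (Nat.land (movedMask NT kk [yl]) (ivl 1 (n - 1))) (ivl 1 (n - 1)) = true)
    (pc : ℕ → ℕ × ℕ × ℕ) (certs : List (ℕ × List ℕ × ℕ × ℕ × ℕ × ℕ))
    (hcert : certs.all (exChk NT yl tl Lmax uP pc) = true)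
    (rc : ℕ) (hcov : Nat.beq (Nat.land (ivl 1 (n - 1))
      (grow NT [[yl]] rc (seedMask (Nat.lor (Nat.pow 2 p) (Nat.pow 2 p')) certs))) (ivl 1 (n - 1)) = true)
    (rf : ℕ) (hfull : growChk NT [[Tl], [yl], [tl]] rf p 0 n = true)
    (x : G) (hx : x * gam ψ NT yl = gam ψ NT yl * x) :
    ∃ j : ℕ, (gam ψ NT yl) ^ j * x = 1 ∨ (gam ψ NT yl) ^ j * x = t₀ := by
  set Y := gam ψ NT yl with hY
  set U := (uP.map (gam ψ NT)).prod with hU
  have hψl : ∀ l < Lmax, ψ (gam ψ NT l) = wordPerm NT [l] := fun l hl => by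
    rw [wordPerm_single]; exact psi_gam ψ NT l (hrange l hl)
  have hY0 : ψ Y 0 = 0 := by
    rw [hψl yl hyl]; exact wordPerm_valS _ NT hNT _ _ _ hy0
  have hUp : ψ U 0 = p := by
    rw [hU, psi_wd ψ NT Lmax hrange _ huP]; exact wordPerm_valS _ NT hNT _ _ _ hp
  have htp : ψ t₀ p = p' := by
    rw [← ht, hψl tl htl]; exact wordPerm_valS _ NT hNT _ _ _ hp'
  have hpn : p < n := by rw [← hUp]; exact hlt U
  have hYfix : ∀ z < n, ψ Y z = z → z = 0 := by
    intro z hz hzz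
    by_contra h0
    have h1 : movedMask NT kk [yl] &&& ivl 1 (n - 1) = ivl 1 (n - 1) := Nat.eq_of_beq_eq_true hmv
    have h2 : (ivl 1 (n - 1)).testBit z = true := (ivl_testBit 1 (n - 1) z).2 ⟨by omega, by omega⟩
    have h3 := congrArg (fun M => Nat.testBit M z) h1
    simp only [Nat.testBit_and, h2, Bool.and_true] at h3
    have h4 := (movedMask_spec NT kk hNT [yl] z (lt_of_lt_of_le hz hn)).1 h3
    rw [← hψl yl hyl] at h4
    exact h4 hzz
  have hYt : Y * t₀ = t₀ * Y := (hdict Y).1 hY0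
  have fix0 : ∀ w : G, w * Y = Y * w → ψ w 0 = 0 := by
    intro w hw
    apply hYfix _ (hlt w)
    rw [← Equiv.Perm.mul_apply, ← map_mul, ← hw, map_mul, Equiv.Perm.mul_apply, hY0]
  have key : ∀ w : G, w * Y = Y * w → ψ w p = p → w = 1 := by
    intro w hw hwp
    apply hfaith
    have hwT : w * gam ψ NT Tl = gam ψ NT Tl * w := by
      rw [hT]; exact (comm_iff_fix ψ t₀ hdict w U).2 (by rw [hUp, hwp])
    have hwt : w * gam ψ NT tl = gam ψ NT tl * w := by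
      rw [ht]; exact (hdict w).1 (fix0 w hw)
    have hfull' : grow NT [[Tl], [yl], [tl]] rf (2 ^ p) = ivl 0 n := Nat.eq_of_beq_eq_true hfull
    intro z hz
    refine grow_spec _ NT hNT (fun z => ψ w z = z) [[Tl], [yl], [tl]] ?_ rf (2 ^ p) ?_ z ?_
    · intro mv hmvm z hz
      have hc : ∃ l < Lmax, mv = [l] ∧ w * gam ψ NT l = gam ψ NT l * w := by
        simp only [List.mem_cons, List.mem_nil_iff, or_false] at hmvm
        rcases hmvm with rfl | rfl | rfl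
        · exact ⟨Tl, hTl, rfl, hwT⟩
        · exact ⟨yl, hyl, rfl, hw⟩
        · exact ⟨tl, htl, rfl, hwt⟩
      obtain ⟨l, hl, rfl, hcl⟩ := hc
      rw [← hψl l hl] at hz
      have h5 : ψ (gam ψ NT l) (ψ w z) = ψ (gam ψ NT l) z := by
        rw [← Equiv.Perm.mul_apply, ← map_mul, ← hcl, map_mul, Equiv.Perm.mul_apply, hz]
      exact (ψ (gam ψ NT l)).injective h5
    · intro z hz
      rw [Nat.testBit_two_pow] at hz
      have : p = z := by simpa using hz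
      rw [← this]; exact hwp
    · rw [hfull']; exact (ivl_testBit 0 n z).2 ⟨Nat.zero_le _, by omega⟩
  -- the image of `p`
  set z := ψ x p with hz
  have hzn : z < n := by
    have : z = ψ (x * U) 0 := by rw [map_mul, Equiv.Perm.mul_apply, hUp]
    rw [this]; exact hlt _
  have hz0 : z ≠ 0 := by
    intro h0
    apply hp0
    have h1 := fix0 x hx
    apply (ψ x).injective
    rw [h1, ← hz, h0]
  have hcov' : ivl 1 (n - 1) &&& grow NT [[yl]] rc (seedMask (2 ^ p ||| 2 ^ p') certs) = ivl 1 (n - 1) :=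
    Nat.eq_of_beq_eq_true hcov
  have hzb : (grow NT [[yl]] rc (seedMask (2 ^ p ||| 2 ^ p') certs)).testBit z = true := by
    have h2 : (ivl 1 (n - 1)).testBit z = true := (ivl_testBit 1 (n - 1) z).2 ⟨by omega, by omega⟩
    have h3 := congrArg (fun M => Nat.testBit M z) hcov'
    simp only [Nat.testBit_and, h2, Bool.true_and] at h3
    exact h3
  have hreach : ∃ j : ℕ, (seedMask (2 ^ p ||| 2 ^ p') certs).testBit (ψ (Y ^ j) z) = true := by
    refine grow_spec _ NT hNT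
      (fun z => ∃ j : ℕ, (seedMask (2 ^ p ||| 2 ^ p') certs).testBit (ψ (Y ^ j) z) = true)
      [[yl]] ?_ rc _ ?_ z hzb
    · intro mv hmvm z ⟨j, hj⟩
      simp only [List.mem_cons, List.mem_nil_iff, or_false] at hmvm
      subst hmvm
      refine ⟨j + 1, ?_⟩
      rw [pow_succ, map_mul, Equiv.Perm.mul_apply, hψl yl hyl]
      exact hj
    · intro z hz
      exact ⟨0, by simpa using hz⟩
  obtain ⟨j, hj⟩ := hreach
  refine ⟨j, ?_⟩
  set x' := Y ^ j * x with hx'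
  have hx'Y : x' * Y = Y * x' := by
    rw [hx', mul_assoc, hx, ← mul_assoc, ← mul_assoc, ← pow_succ, ← pow_succ']
  have hx'p : ψ x' p = ψ (Y ^ j) z := by rw [hx', map_mul, Equiv.Perm.mul_apply]
  rw [← hx'p] at hj
  rcases seedMask_spec _ certs _ hj with h0 | ⟨c, hc, hcq⟩
  · rw [Nat.testBit_or, Bool.or_eq_true, Nat.testBit_two_pow, Nat.testBit_two_pow] at h0
    rcases h0 with h0 | h0
    · left
      exact key x' hx'Y (by have : p = ψ x' p := by simpa using h0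
                            exact this.symm)
    · right
      have h1 : ψ x' p = p' := by
        have : p' = ψ x' p := by simpa using h0
        exact this.symm
      have h2 : t₀⁻¹ * x' = 1 := by
        apply key
        · have hYt' : t₀⁻¹ * Y = Y * t₀⁻¹ := by
            calc t₀⁻¹ * Y = t₀⁻¹ * (Y * t₀) * t₀⁻¹ := by group
              _ = t₀⁻¹ * (t₀ * Y) * t₀⁻¹ := by rw [hYt]
              _ = _ := by group
          rw [mul_assoc, hx'Y, ← mul_assoc, hYt', mul_assoc]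
        · rw [map_mul, Equiv.Perm.mul_apply, h1, map_inv, Equiv.Perm.inv_eq_iff_eq, htp]
      calc x' = t₀ * (t₀⁻¹ * x') := by group
        _ = t₀ := by rw [h2, mul_one]
  · exfalso
    rw [List.all_eq_true] at hcert
    have h1 := hcert c hc
    unfold exChk at h1
    simp only [Bool.and_eq_true] at h1
    obtain ⟨hq, hcQ, hcP, hne⟩ := h1
    have huQ : ∀ l ∈ c.2.1, l < Lmax := by
      unfold qChk at hcQ
      simp only [Bool.and_eq_true, List.all_eq_true, decide_eq_true_eq] at hcQ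
      exact hcQ.1
    set Uq := (c.2.1.map (gam ψ NT)).prod with hUq
    have hUq0 : ψ Uq 0 = c.1 := by
      rw [hUq, psi_wd ψ NT Lmax hrange _ huQ]; exact wordPerm_valS _ NT hNT _ _ _ hq
    have sQ := qChk_spec ψ t₀ hdict NT kk hNT Lmax hrange yl tl hyl htl ht _ _ _ _ _ hcQ
    have sP := qChk_spec ψ t₀ hdict NT kk hNT Lmax hrange yl tl hyl htl ht _ _ _ _ _ hcP
    rw [Fp_iff ψ t₀ hdict] at sQ sP
    have hconj : x' * (U * t₀ * U⁻¹) * x'⁻¹ = Uq * t₀ * Uq⁻¹ := by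
      have e1 : x' * (U * t₀ * U⁻¹) * x'⁻¹ = (x' * U) * t₀ * (x' * U)⁻¹ := by group
      rw [e1]
      apply (conj_eq_iff ψ t₀ hdict _ _).2
      rw [map_mul, Equiv.Perm.mul_apply, hUp, hUq0, hcq]
    have hxk : x' * Y ^ c.2.2.1 = Y ^ c.2.2.1 * x' :=
      (Commute.pow_right (show Commute x' Y from hx'Y) _).eq
    have htr := comm_transport x' (Y ^ c.2.2.1) _ _ hxk hconj
    rw [sP, sQ] at htr
    have : (Nat.beq c.2.2.2.2.2 c.2.2.2.2.1) = (Nat.beq (pc c.2.2.1).2.2 (pc c.2.2.1).2.1) := by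
      rw [Bool.eq_iff_iff]
      constructor
      · intro h; rw [htr.2 (Nat.eq_of_beq_eq_true h)]; exact Nat.beq_refl _
      · intro h; rw [htr.1 (Nat.eq_of_beq_eq_true h)]; exact Nat.beq_refl _
    rw [this] at hne
    simp at hne

end

end Cfsg.Agent.Lib.Helper11.Out
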