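import Cfsg.Agent.Lib.Helper11.Out.Data

set_option autoImplicit false
set_option maxRecDepth 100000
set_option maxHeartbeats 0

namespace Cfsg.Agent.Lib.Helper11.Out

open Cfsg.Agent.Lib.Helper11 Cfsg.Agent.Lib.Helper11.SylEA

def vW : List ℕ := [8, 7, 6, 5, 4, 9, 3, 4, 5, 6, 7, 8]
def W2 : List ℕ := [20, 22, 1, 2, 20, 22, 2, 1]
def W3 : List ℕ := [19, 20, 22, 1, 2, 19, 20, 22, 2, 1]

theorem a1 : wordEq (ntOf F23S.ntl3) 15 (19 :: vW) (vW ++ tW) = true := by decide +kernel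

theorem a2 : (F23S.tL ++ F23S.eL).all (fun l => wordEq (ntOf F23S.ntl3) 15 [19, l] [l, 19]) = true := by
  decide +kernel

theorem a3 : (List.range 2048).all (fun x =>
    !(F23S.tL.all (fun l => xorL ((List.range 11).map (fun j => F23S.cs (F23S.tau l j))) x == x)) ||
      (x == 0 || (x == 2 || (x == 20 || x == 22)))) = true := by
  decide +kernel

theorem a4 : ∀ k < 23, ∀ k' < 23, F23S.cs k = F23S.cs k' → k = k' := by decide +kernel

theorem a5 : wordEq (ntOf F23S.ntl3) 15 [1, 2, 2, 1] [] = true := by decide +kernel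

theorem a6 : Nat.beq (applyWord (ntOf F23S.ntl3) (W2 ++ W2) (Nat.pow 2 3255)) (Nat.pow 2 1) = true := by
  decide +kernel
theorem a7 : Nat.beq (applyWord (ntOf F23S.ntl3) (W2 ++ W2 ++ W2) (Nat.pow 2 800)) (Nat.pow 2 1) = true := by
  decide +kernel
theorem a8 : Nat.beq (applyWord (ntOf F23S.ntl3) (W3 ++ W3) (Nat.pow 2 514)) (Nat.pow 2 1) = true := by
  decide +kernel
theorem a9 : Nat.beq (applyWord (ntOf F23S.ntl3) (W3 ++ W3 ++ W3) (Nat.pow 2 32)) (Nat.pow 2 2) = true := by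
  decide +kernel

theorem e2 : evW F23S.eL 2 = [19] := by decide +kernel
theorem e20 : evW F23S.eL 20 = [20, 22] := by decide +kernel
theorem e22 : evW F23S.eL 22 = [19, 20, 22] := by decide +kernel

end Cfsg.Agent.Lib.Helper11.Out
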