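import Cfsg.Agent.Lib.Helper11.Out.Data

set_option autoImplicit false
set_option maxRecDepth 100000
set_option maxHeartbeats 0

namespace Cfsg.Agent.Lib.Helper11.Out

open Cfsg.Agent.Lib.Helper11 Cfsg.Agent.Lib.Helper11.SylEA

theorem sc0 : stepChk (ntOf F23S.ntl3) 15 31671 32 omB [] 1 mv0 5 = true := by decide +kernel
theorem sc1 : stepChk (ntOf F23S.ntl3) 15 31671 32 omB [1] 2 mv1 4 = true := by decide +kernel
theorem sc2 : stepChk (ntOf F23S.ntl3) 15 31671 32 omB [2, 1] 3 mv2 4 = true := by decide +kernel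
theorem sc3 : stepChk (ntOf F23S.ntl3) 15 31671 32 omB [3, 2, 1] 5 mv3 3 = true := by decide +kernel
theorem sc4 : stepChk (ntOf F23S.ntl3) 15 31671 32 omB [5, 3, 2, 1] 6 mv4 2 = true := by decide +kernel
theorem sc5 : stepChk (ntOf F23S.ntl3) 15 31671 32 omB [6, 5, 3, 2, 1] 7 mv5 2 = true := by decide +kernel
theorem sc6 : stepChk (ntOf F23S.ntl3) 15 31671 32 omB [7, 6, 5, 3, 2, 1] 8 mv6 1 = true := by decide +kernel
theorem sc7 : stepChk (ntOf F23S.ntl3) 15 31671 32 omB [8, 7, 6, 5, 3, 2, 1] 9 mv7 1 = true := by decide +kernel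
theorem sc8 : stepChk (ntOf F23S.ntl3) 15 31671 32 omB [9, 8, 7, 6, 5, 3, 2, 1] 4 mv8 1 = true := by decide +kernel
theorem sc9 : stepChk (ntOf F23S.ntl3) 15 31671 32 omB [4, 9, 8, 7, 6, 5, 3, 2, 1] 10 mv9 0 = true := by decide +kernel

theorem tW_eq : Fi23o.tE.letters Fi23o.INVm = tW := by decide +kernel

theorem uChk : (List.range 11).all (fun m => m == 0 ||
    (wordEq (ntOf F23S.ntl3) 15 (m :: uB m) (uB m ++ tW) &&
      Nat.beq (applyWord (ntOf F23S.ntl3) (uB m) (Nat.pow 2 (omB m))) (Nat.pow 2 0))) = true := by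
  decide +kernel

end Cfsg.Agent.Lib.Helper11.Out
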