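import Cfsg.Agent.Lib.Helper11.Out.Rigid
import Cfsg.Agent.Lib.Helper11.F23S.Main

set_option autoImplicit false
set_option maxRecDepth 100000

namespace Cfsg.Agent.Lib.Helper11.Out

def omL : List ℕ := [0, 3510, 3185, 3184, 3357, 3182, 3183, 344, 31670, 3181, 3186]
def omB (l : ℕ) : ℕ := omL.getD l 0
def uL : List (List ℕ) := [[], [2, 3, 4, 9, 5, 6, 4, 5, 3, 4, 9, 7, 8, 6, 7, 5, 6, 4, 5, 3, 4, 9, 1, 2, 3, 4, 5, 6, 7, 8], [3, 4, 9, 5, 6, 4, 5, 3, 4, 9, 7, 8, 6, 7, 5, 6, 4, 5, 3, 4, 9, 2, 3, 4, 5, 6, 7, 8], [4, 9, 5, 6, 4, 5, 2, 3, 4, 9, 7, 8, 6, 7, 5, 6, 4, 5, 3, 4, 9, 2, 3, 4, 5, 6, 7, 8], [9, 5, 6, 3, 4, 5, 2, 3, 4, 9, 7, 8, 6, 7, 5, 6, 4, 5, 3, 4, 9, 2, 3, 4, 5, 6,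 7, 8], [4, 9, 6, 3, 4, 5, 2, 3, 4, 9, 7, 8, 6, 7, 5, 6, 4, 5, 3, 4, 9, 2, 3, 4, 5, 6, 7, 8], [5, 4, 9, 3, 4, 5, 2, 3, 4, 9, 7, 8, 6, 7, 5, 6, 4, 5, 3, 4, 9, 2, 3, 4, 5, 6, 7, 8], [6, 5, 4, 9, 3, 4, 5, 2, 3, 4, 9, 8, 6, 7, 5, 6, 4, 5, 3, 4, 9, 2, 3, 4, 5, 6, 7, 8], [7, 6, 5, 4, 9, 3, 4, 5, 2, 3, 4, 9, 6, 7, 5, 6, 4, 5, 3, 4, 9, 2, 3, 4, 5, 6, 7, 8], [4, 5, 6, 3, 4, 5, 2, 3, 4, 9, 7, 8, 6, 7, 5, 6, 4, 5, 3, 4, 9, 2, 3, 4, 5, 6, 7, 8], [9, 4, 5, 3, 4, 9, 6, 7, 5, 6, 4, 5, 3, 4, 9, 10, 8, 7, 6, 5, 4, 9, 3, 4, 5, 6, 7, 8]]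
def uB (l : ℕ) : List ℕ := uL.getD l []
def mv0 : List (List ℕ) := [[2], [1], [3, 2, 3], [5, 4, 5], [9, 4, 9], [4, 3, 4], [7, 6, 5, 6, 7], [6, 5, 4, 5, 6], [10, 9, 4, 9, 10], [8, 7, 6, 7, 8]]
def mv1 : List (List ℕ) := [[3], [4], [1], [6, 5, 6], [10, 9, 10], [5, 4, 5], [9, 4, 9], [8, 7, 8], [7, 6, 5, 6, 7], [2, 3, 4, 9, 5, 4, 3, 2, 1, 2, 3, 4, 5, 9, 4, 3, 2]]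
def mv2 : List (List ℕ) := [[4], [6, 5, 6], [10, 9, 10], [5, 4, 5], [9, 4, 9], [8, 7, 8], [7, 6, 5, 6, 7], [3, 4, 9, 10, 2, 3, 4, 9, 5, 4, 3, 2, 1, 2, 3, 4, 5, 9, 4, 3, 2, 10, 9, 4, 3]]
def mv3 : List (List ℕ) := [[6], [7, 6, 7], [6, 5, 6], [8, 7, 8], [4, 9, 3, 4, 5, 2, 3, 4, 9, 6, 5, 4, 3, 2, 1, 2, 3, 4, 5, 6, 9, 4, 3, 2, 5, 4, 3, 9, 4], [4, 5, 3, 4, 9, 10, 2, 3, 4, 9, 5, 4, 3, 2, 1, 2, 3, 4, 5, 9, 4, 3, 2, 10, 9, 4, 3, 5, 4], [10, 4, 9, 3, 4, 5, 2, 3, 4, 9, 6, 5, 4, 3, 2, 1, 2, 3, 4, 5, 6, 9, 4, 3, 2, 5, 4, 3, 9, 4, 10]]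
def mv4 : List (List ℕ) := [[7], [5], [8], [4, 5, 3, 4, 9, 10, 2, 3, 4, 9, 5, 4, 3, 2, 1, 2, 3, 4, 5, 9, 4, 3, 2, 10, 9, 4, 3, 5, 4], [9, 4, 5, 3, 4, 9, 10, 2, 3, 4, 9, 5, 4, 3, 2, 1, 2, 3, 4, 5, 9, 4, 3, 2, 10, 9, 4, 3, 5, 4, 9], [4, 9, 6, 3, 4, 5, 2, 3, 4, 9, 7, 6, 5, 4, 3, 2, 1, 2, 3, 4, 5, 6, 7, 9, 4, 3, 2, 5, 4, 3, 6, 9, 4], [4, 5, 6, 3, 4, 5, 2, 3, 4, 9, 7, 6, 5, 4, 3, 2, 1, 2, 3, 4, 5, 6, 7, 9, 4, 3, 2, 5, 4, 3, 6, 5, 4]]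
def mv5 : List (List ℕ) := [[8], [4, 5, 6, 3, 4, 5, 2, 3, 4, 9, 7, 6, 5, 4, 3, 2, 1, 2, 3, 4, 5, 6, 7, 9, 4, 3, 2, 5, 4, 3, 6, 5, 4], [10, 4, 5, 6, 3, 4, 5, 2, 3, 4, 9, 7, 6, 5, 4, 3, 2, 1, 2, 3, 4, 5, 6, 7, 9, 4, 3, 2, 5, 4, 3, 6, 5, 4, 10], [9, 10, 4, 5, 6, 3, 4, 5, 2, 3, 4, 9, 7, 6, 5, 4, 3, 2, 1, 2, 3, 4, 5, 6, 7, 9, 4, 3, 2, 5, 4, 3, 6, 5, 4, 10, 9], [4, 9, 7, 6, 3, 4, 5, 2, 3, 4, 9, 8, 7, 6, 5, 4, 3, 2, 1, 2, 3, 4, 5, 6, 7, 8, 9, 4, 3, 2, 5, 4, 3, 6, 7, 9, 4]]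
def mv6 : List (List ℕ) := [[4, 5, 6, 3, 4, 5, 2, 3, 4, 9, 7, 6, 5, 4, 3, 2, 1, 2, 3, 4, 5, 6, 7, 9, 4, 3, 2, 5, 4, 3, 6, 5, 4], [10, 4, 5, 6, 3, 4, 5, 2, 3, 4, 9, 7, 6, 5, 4, 3, 2, 1, 2, 3, 4, 5, 6, 7, 9, 4, 3, 2, 5, 4, 3, 6, 5, 4, 10], [9, 10, 4, 5, 6, 3, 4, 5, 2, 3, 4, 9, 7, 6, 5, 4, 3, 2, 1, 2, 3, 4, 5, 6, 7, 9, 4, 3, 2, 5, 4, 3, 6, 5, 4, 10, 9], [8, 7, 6, 5, 4, 9, 3, 4, 5, 2, 3, 4, 9, 6, 7, 5, 6, 4, 5, 3, 4, 9, 8, 7, 6, 5, 4, 3, 2, 3, 4, 5, 6, 7, 8, 9, 4, 3, 5, 4, 6, 5, 7, 6, 9, 4, 3, 2, 5, 4, 3, 9, 4, 5, 6, 7, 8]]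
def mv7 : List (List ℕ) := [[10], [10, 9, 10]]
def mv8 : List (List ℕ) := [[9]]
def mv9 : List (List ℕ) := []
def tW : List ℕ := [8, 7, 6, 5, 4, 3, 2, 9, 4, 3, 5, 4, 6, 5, 7, 6, 8, 7, 9, 4, 3, 5, 4, 6, 5, 9, 4, 3, 2, 3, 4, 9, 5, 6, 4, 5, 3, 4, 9, 7, 8, 6, 7, 5, 6, 4, 5, 3, 4, 9, 2, 3, 4, 5, 6, 7, 8]

end Cfsg.Agent.Lib.Helper11.Out
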