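import Cfsg.Agent.Lib.Helper3.TTReal2

/-!
# The dictionary between the points of a model and a class of involutions
(the first half of the argument of `Cfsg.Agent.Lib.Helper3.model_threeTr`)
-/

set_option autoImplicit false

namespace Cfsg.Agent.Lib.Helper11.Out

open Cfsg.Agent.Lib.Helper11 Cfsg.Agent.Lib.Helper3

section

variable {G F : Type*} [Group G] [Group F]

theorem model_dict (mk : F →* G) (S : Set F) (ψ : G →* Equiv.Perm ℕ)
    (φ : ℕ → F) (INV : ℕ) (NT : ℕ → List (ℕ × ℕ)) (k : ℕ)
    (hNT : ∀ l, ∀ st ∈ NT l, stOK (2 ^ (2 ^ k)) st = true)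
    (hψ : ∀ e : WExp, ψ (mk (e.eval φ)) = wordPerm NT (e.letters INV))
    (hExps : List WExp) (hS1 : ∀ s ∈ S, ∃ e ∈ hExps, e.eval φ = s)
    (hS2 : ∀ e ∈ hExps, e.eval φ ∈ S)
    (gExps : List WExp)
    (hgen : ∀ g : G, g ∈ Subgroup.closure {t | ∃ e ∈ gExps, t = mk (e.eval φ)}) (n r0 : ℕ)
    (hn : 1 < n)
    (hup : ((Subgroup.closure S).map mk).index ≠ 0 ∧ ((Subgroup.closure S).map mk).index ≤ n)
    (hfix0 : fixChk NT (hExps.map (fun e => e.letters INV)) 0 1 = true)
    (htr : growChk NT (gExps.map (fun e => e.letters INV)) r0 0 0 n = true)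
    (hinvn : fixChk NT (gExps.map (fun e => e.letters INV)) 0 n = true)
    (bs : List ℕ) (hbs : stabL ψ bs = ⊥) (hbn : ∀ b ∈ bs, b < n)
    (L : List (ℕ × ℕ × WExp × ℕ))
    (hprim : Helper11.primChk NT INV (hExps.map (fun e => e.letters INV)) n 1 L = true)
    (hperf : commutator G = ⊤)
    (tE : WExp)
    (hnorm : normChk NT k (hExps.map (fun e => e.letters INV)) (tE.letters INV)
      ((WExp.inv tE).letters INV) = true)
    (hgenA : Subgroup.normalClosure {mk (tE.eval φ)} = ⊤)
    (ht2 : mk (tE.eval φ) * mk (tE.eval φ) = 1) :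
    (∀ g : G, ψ g 0 = 0 ↔ g * mk (tE.eval φ) = mk (tE.eval φ) * g) ∧ ∀ g : G, ψ g 0 < n := by
  set H := (Subgroup.closure S).map mk with hH
  have hfaith : ∀ g : G, (∀ p < n, ψ g p = p) → g = 1 := by
    intro g hg
    have : g ∈ stabL ψ bs := fun b hb => hg b (hbn b hb)
    rw [hbs] at this
    exact Subgroup.mem_bot.1 this
  have hψinj : Function.Injective ψ := by
    rw [injective_iff_map_eq_one]
    intro g hg
    apply hfaith
    intro p _
    rw [hg]; rfl
  have hHc : H = Subgroup.closure (mk '' S) := by rw [hH, MonoidHom.map_closure]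
  have hT : ∀ t ∈ mk '' S, ∃ w ∈ hExps.map (fun e => e.letters INV), ψ t = wordPerm NT w := by
    rintro _ ⟨s, hs, rfl⟩
    obtain ⟨e, he, rfl⟩ := hS1 s hs
    exact ⟨_, List.mem_map_of_mem he, hψ e⟩
  have hmv : ∀ w ∈ hExps.map (fun e => e.letters INV), ∃ t ∈ H, ψ t = wordPerm NT w := by
    intro w hw
    obtain ⟨e, he, rfl⟩ := List.mem_map.1 hw
    exact ⟨mk (e.eval φ), Subgroup.mem_map_of_mem _ (Subgroup.subset_closure (hS2 e he)), hψ e⟩
  have hfix : ∀ h ∈ H, ψ h 0 = 0 := by
    intro h hh
    rw [hHc] at hh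
    have := (inv_of_bits ψ (mk '' S) _ NT hNT _ hT 0 1 hfix0 h hh 0).2 ⟨le_refl _, by norm_num⟩
    omega
  have htrans : ∀ p, p < n → ∃ g : G, ψ g 0 = p := by
    intro p hp
    obtain ⟨g, _, e⟩ := reach_of_grow ψ ⊤ _ NT hNT (gExps.map (fun e => e.letters INV)) (by
      intro w hw
      obtain ⟨e, _, rfl⟩ := List.mem_map.1 hw
      exact ⟨mk (e.eval φ), Subgroup.mem_top _, hψ e⟩) 0 r0 0 n htr p (Nat.zero_le _) (by omega)
    exact ⟨g, e⟩
  obtain ⟨hidx, hinj⟩ := model_index H ψ n hup hfix htrans
  have hlt : ∀ g : G, ψ g 0 < n := by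
    intro g
    have := (inv_of_bits ψ {t | ∃ e ∈ gExps, t = mk (e.eval φ)} _ NT hNT
      (gExps.map (fun e => e.letters INV)) (by
        rintro _ ⟨e, he, rfl⟩
        exact ⟨_, List.mem_map_of_mem he, hψ e⟩) 0 n hinvn g (hgen g) 0).2 ⟨le_refl _, by omega⟩
    omega
  have hcases := primChk_spec mk H ψ φ INV NT _ hNT hψ _ hmv n hfix hinj hlt L 1 hprim
  have hmax : IsCoatom H := by
    apply coatom_of_model H ψ hfix hinj
    · obtain ⟨g, hg⟩ := htrans 1 hn
      exact ⟨g, by omega⟩
    · intro K hK k hk h0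
      exact hcases K hK k hk h0
  have hnt : Nontrivial G := by
    obtain ⟨g, hg⟩ := htrans 1 hn
    refine ⟨g, 1, ?_⟩
    rintro rfl
    simp at hg
  set t := mk (tE.eval φ) with ht
  have htinv : t⁻¹ = t := inv_eq_of_mul_eq_one_left ht2
  have hcent : ∀ h ∈ H, h * t = t * h := by
    have hle : H ≤ Subgroup.centralizer {t} := by
      rw [hHc, Subgroup.closure_le]
      rintro _ ⟨s, hs, rfl⟩
      obtain ⟨e, he, rfl⟩ := hS1 s hs
      unfold normChk at hnorm
      rw [List.all_eq_true] at hnorm
      have h1 := hnorm _ (List.mem_map_of_mem he)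
      rw [Bool.or_eq_true] at h1
      rw [SetLike.mem_coe, Subgroup.mem_centralizer_iff]
      intro y hy
      rw [Set.mem_singleton_iff] at hy
      subst hy
      rcases h1 with h1 | h1
      · apply hψinj
        have := wordEq_spec NT k hNT _ _ h1
        rw [wordPerm_append, wordPerm_append, ← hψ, ← hψ] at this
        rw [map_mul, map_mul]; exact this.symm
      · apply hψinj
        have := wordEq_spec NT k hNT _ _ h1
        rw [wordPerm_append, wordPerm_append, ← hψ, ← hψ, ← hψ] at this
        rw [map_mul, map_mul]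
        have h2 : mk ((WExp.inv tE).eval φ) = t := by
          rw [WExp.eval, map_inv, ← ht, htinv]
        rw [h2] at this
        exact this.symm
    intro h hh
    have := hle hh
    rw [Subgroup.mem_centralizer_iff] at this
    exact (this t rfl).symm
  have ht1 : t ≠ 1 := by
    intro h1
    rw [h1] at hgenA
    have : Subgroup.normalClosure ({1} : Set G) = ⊥ := by
      rw [eq_bot_iff]
      apply Subgroup.normalClosure_le_normal
      simp
    rw [this] at hgenA
    exact bot_ne_top hgenA
  have hZ : t ∉ Subgroup.center G := by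
    intro hz
    -- then the normal closure is central, so `G` is abelian
    have h1 : Subgroup.normalClosure {t} ≤ Subgroup.center G :=
      Subgroup.normalClosure_le_normal (by simpa using hz)
    rw [hgenA, top_le_iff] at h1
    have h3 : commutator G = ⊥ := by
      rw [commutator_def, Subgroup.commutator_eq_bot_iff_le_centralizer]
      intro x _
      rw [Subgroup.mem_centralizer_iff]
      intro y _
      have : x ∈ Subgroup.center G := by rw [h1]; exact Subgroup.mem_top x
      exact (Subgroup.mem_center_iff.1 this) y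
    rw [hperf] at h3
    exact bot_ne_top h3.symm
  have hC := centralizer_eq_of_coatom H hmax t hcent hZ
  refine ⟨?_, hlt⟩
  intro g
  constructor
  · intro h0
    have h1 : ψ 1 0 = ψ g 0 := by rw [h0]; simp
    have := mem_of_fix H ψ hfix hinj _ _ h1
    exact hcent g (by simpa using this)
  · intro hg
    apply hfix
    rw [← hC, Subgroup.mem_centralizer_iff]
    intro y hy
    rw [Set.mem_singleton_iff] at hy
    rw [hy]
    exact hg.symm

end

end Cfsg.Agent.Lib.Helper11.Out
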