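import Cfsg.Agent.Lib.Helper11.SylEA

/-!
# The centre of the Sylow subgroup described by tables
-/

set_option autoImplicit false

namespace Cfsg.Agent.Lib.Helper11.Out

open Cfsg.Agent.Lib.Helper11 Cfsg.Agent.Lib.Helper11.SylEA

section

variable {G : Type*} [Group G]

theorem master2 [Finite G] (ψ : G →* Equiv.Perm ℕ) (hinj : Function.Injective ψ)
    (NT : ℕ → List (ℕ × ℕ)) (kk : ℕ) (hNT : ∀ l, ∀ st ∈ NT l, stOK (2 ^ (2 ^ kk)) st = true)
    (Lmax : ℕ) (hrange : ∀ l < Lmax, netPerm (NT l) ∈ ψ.range)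
    (eL tL : List ℕ) (hL : ∀ l ∈ tL ++ eL, l < Lmax)
    (om cs : ℕ → ℕ) (Sig tau : ℕ → ℕ → ℕ) (nΩ nS r : ℕ)
    (levK levE levT : List (List (List ℕ) × ℕ × ℕ × ℕ))
    (c1 : eL.all (fun a => wordEq NT kk [a, a] [] &&
      eL.all (fun b => wordEq NT kk [a, b] [b, a])) = true)
    (c2 : eL.all (fun a => (List.range nΩ).all (fun k =>
      Nat.beq (applyWord NT [a] (Nat.pow 2 (om k))) (Nat.pow 2 (om k)))) = true)
    (c3 : tL.all (fun g => (List.range nΩ).all (fun k =>
      Nat.beq (applyWord NT [g] (Nat.pow 2 (om (tau g k)))) (Nat.pow 2 (om k)))) = true)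
    (c4 : tL.all (fun g => (List.range nΩ).all (fun k =>
      wordEq NT kk (g :: evW eL (cs k)) (evW eL (cs (tau g k)) ++ [g]))) = true)
    (c5 : tL.all (fun g => (List.range nΩ).all (fun k => decide (tau g k < nΩ)) &&
      (List.range nS).all (fun i => (List.range nS).any (fun i' =>
        (List.range nΩ).all (fun k => Sig i' k == Sig i (tau g k))))) = true)
    (c6 : chainChkC NT (fun l => decide (l < Lmax)) kk levK [] = true)
    (c7 : chainChkC NT (fun l => eL.contains l) kk levE [] = true)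
    (c8 : chainChkC NT (fun l => (tL ++ eL).contains l) kk levT [] = true)
    (hlen : eL.length = r) (hr : r ≤ nΩ) (hnS : 0 < nS)
    (hcs : ∀ l < r, cs l = 2 ^ l) (hcslt : ∀ k < nΩ, cs k < 2 ^ r)
    (hωinj : ∀ k < nΩ, ∀ k' < nΩ, om k = om k' → k = k')
    (hSlt : ∀ i < nS, ∀ k < nΩ, Sig i k < nΩ) (hS0 : ∀ k < nΩ, Sig 0 k = k)
    (hbK : ∀ b ∈ pushC levK [], ∃ k < nΩ, om k = b)
    (hbT : ∀ b ∈ pushC levT [], ∃ k < nΩ, om k = b)
    (hpK : (levK.map fun x => x.2.2.2).prod * 2 ^ r = Nat.card G)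
    (hpE : (levE.map fun x => x.2.2.2).prod = 2 ^ r)
    (hpT : (levT.map fun x => x.2.2.2).prod = nS) :
    ∃ K : Subgroup G, Tab ψ (eL.map (gam ψ NT)) om cs Sig nΩ nS r K
        (Subgroup.closure {g | g ∈ (tL ++ eL).map (gam ψ NT)}) ∧
      Nat.card (Subgroup.closure {g | g ∈ (tL ++ eL).map (gam ψ NT)}) = nS * 2 ^ r ∧
      ∀ l ∈ tL, PT ψ (fun k => evL (eL.map (gam ψ NT)) (cs k)) om nΩ (tau l) (gam ψ NT l) ∧
        ∀ k < nΩ, tau l k < nΩ := by
  classical
  set γ := gam ψ NT with hγdef
  set es := eL.map γ with hes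
  set E : Subgroup G := Subgroup.closure {g | g ∈ es} with hE
  set K : Subgroup G := stabL ψ (pushC levK []) with hK
  set T0 : Subgroup G := Subgroup.closure {g | g ∈ (tL ++ eL).map γ} with hT0
  have hLe : ∀ l ∈ eL, l < Lmax := fun l hl => hL l (List.mem_append_right _ hl)
  have hLt : ∀ l ∈ tL, l < Lmax := fun l hl => hL l (List.mem_append_left _ hl)
  have hψγ : ∀ l < Lmax, ψ (γ l) = wordPerm NT [l] := fun l hl => by
    rw [wordPerm_single]; exact psi_gam ψ NT l (hrange l hl)
  have weq := eq_of_wordEq ψ hinj NT kk hNT Lmax hrange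
  rw [List.all_eq_true] at c1 c2 c3 c4 c5
  -- (1)
  have hCI : CI es := by
    constructor
    · intro g hg
      obtain ⟨a, ha, rfl⟩ := List.mem_map.1 hg
      have h := c1 a ha
      rw [Bool.and_eq_true] at h
      have := weq [a, a] [] (by intro l hl; simp at hl; subst hl; exact hLe _ ha) (by simp) h.1
      simpa using this
    · intro g hg g' hg'
      obtain ⟨a, ha, rfl⟩ := List.mem_map.1 hg
      obtain ⟨b, hb, rfl⟩ := List.mem_map.1 hg'
      have h := c1 a ha
      rw [Bool.and_eq_true, List.all_eq_true] at h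
      have := weq [a, b] [b, a]
        (by intro l hl; simp at hl; rcases hl with rfl | rfl; exact hLe _ ha; exact hLe _ hb)
        (by intro l hl; simp at hl; rcases hl with rfl | rfl; exact hLe _ hb; exact hLe _ ha)
        (h.2 b hb)
      simpa using this
  -- (2)
  have hefix : ∀ a ∈ eL, ∀ k < nΩ, ψ (γ a) (om k) = om k := by
    intro a ha k hk
    have h := c2 a ha
    rw [List.all_eq_true] at h
    rw [hψγ a (hLe a ha)]
    exact wordPerm_valS _ NT hNT [a] _ _ (h k (List.mem_range.2 hk))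
  have hEfix : ∀ bs : List ℕ, (∀ b ∈ bs, ∃ k < nΩ, om k = b) → E ≤ stabL ψ bs := by
    intro bs hbs
    rw [hE, Subgroup.closure_le]
    intro g hg
    obtain ⟨a, ha, rfl⟩ := List.mem_map.1 hg
    intro b hb
    obtain ⟨k, hk, rfl⟩ := hbs b hb
    exact hefix a ha k hk
  have hEK : E ≤ K := hEfix _ hbK
  -- (4)
  have hKle : Nat.card K ≤ 2 ^ r := by
    have h := chain_cardC ψ ⊤ _ NT hNT (fun l => decide (l < Lmax)) kk (by
      intro l hl
      obtain ⟨t, ht⟩ := MonoidHom.mem_range.1 (hrange l (of_decide_eq_true hl))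
      exact ⟨t, Subgroup.mem_top _, ht⟩) levK [] c6
    rw [top_inf_eq, top_inf_eq, stabL_nil, Subgroup.card_top, ← hpK] at h
    have hpos : 0 < (levK.map fun x => x.2.2.2).prod := by
      rcases Nat.eq_zero_or_pos (levK.map fun x => x.2.2.2).prod with h0 | h0
      · rw [h0, zero_mul] at hpK
        exact absurd hpK.symm Nat.card_pos.ne'
      · exact h0
    exact Nat.le_of_mul_le_mul_left h hpos
  -- (5)
  have hEge : 2 ^ r ≤ Nat.card E := by
    have h := chain_cardC ψ E _ NT hNT (fun l => eL.contains l) kk (by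
      intro l hl
      have hl' : l ∈ eL := by simpa using hl
      exact ⟨γ l, Subgroup.subset_closure (List.mem_map_of_mem hl'), by
        rw [hψγ l (hLe l hl'), wordPerm_single]⟩) levE [] c7
    rw [hpE, stabL_nil, inf_top_eq] at h
    have h1 : 0 < Nat.card (E ⊓ stabL ψ (pushC levE []) : Subgroup G) := Nat.card_pos
    calc 2 ^ r = 2 ^ r * 1 := (mul_one _).symm
      _ ≤ 2 ^ r * Nat.card (E ⊓ stabL ψ (pushC levE []) : Subgroup G) := Nat.mul_le_mul_left _ h1
      _ ≤ _ := h
  have hEeq : E = K := Subgroup.eq_of_le_of_card_ge hEK (le_trans hKle hEge)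
  have hKc : Nat.card K = 2 ^ r := le_antisymm hKle (hEeq ▸ hEge)
  -- (7)
  set D : ℕ → G := fun k => evL es (cs k) with hD
  have hDw : ∀ k, D k = ((evW eL (cs k)).map γ).prod := fun k => evL_map γ eL (cs k)
  have hT : ∀ a ∈ T0, ∃ i < nS, PT ψ D om nΩ (Sig i) a := by
    apply table_closure Sig nS _ hnS hS0
    intro g hg
    obtain ⟨l, hl, rfl⟩ := List.mem_map.1 hg
    rcases List.mem_append.1 hl with hl | hl
    · have h3 := c3 l hl
      have h4 := c4 l hl
      have h5 := c5 l hl
      rw [List.all_eq_true] at h3 h4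
      rw [Bool.and_eq_true, List.all_eq_true, List.all_eq_true] at h5
      refine ⟨tau l, ?_, ?_, ?_⟩
      · intro k hk
        constructor
        · rw [hψγ l (hLt l hl)]
          exact wordPerm_valS _ NT hNT [l] _ _ (h3 k (List.mem_range.2 hk))
        · have := weq _ _ (by
            intro x hx
            rcases List.mem_cons.1 hx with rfl | hx
            · exact hLt _ hl
            · exact hLe _ (evW_mem _ _ _ hx)) (by
            intro x hx
            rcases List.mem_append.1 hx with hx | hx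
            · exact hLe _ (evW_mem _ _ _ hx)
            · simp at hx; subst hx; exact hLt _ hl) (h4 k (List.mem_range.2 hk))
          rw [List.map_cons, List.prod_cons, List.map_append, List.prod_append, ← hDw, ← hDw] at this
          simp only [List.map_cons, List.map_nil, List.prod_cons, List.prod_nil, mul_one] at this
          rw [this, mul_assoc, mul_inv_cancel, mul_one]
      · intro k hk
        exact of_decide_eq_true (h5.1 k (List.mem_range.2 hk))
      · intro i hi
        have h6 := h5.2 i (List.mem_range.2 hi)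
        rw [List.any_eq_true] at h6
        obtain ⟨i', hi', h7⟩ := h6
        rw [List.all_eq_true] at h7
        refine ⟨i', List.mem_range.1 hi', fun k hk => ?_⟩
        simpa using h7 k (List.mem_range.2 hk)
    · refine ⟨fun k => k, ?_, fun k hk => hk, fun i hi => ⟨i, hi, fun k _ => rfl⟩⟩
      intro k hk
      refine ⟨hefix l hl k hk, ?_⟩
      have := evL_comm (γ l) es (fun x hx => hCI.2 _ (List.mem_map_of_mem hl) x hx) (cs k)
      show γ l * evL es (cs k) * (γ l)⁻¹ = evL es (cs k)
      rw [this, mul_assoc, mul_inv_cancel, mul_one]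
  have t : Tab ψ es om cs Sig nΩ nS r K T0 :=
    { hCI := hCI
      hlen := by rw [hes, List.length_map, hlen]
      hr := hr
      hK := hEeq.symm
      hKc := hKc
      hstab := by
        intro a ha b hb
        obtain ⟨k, hk, rfl⟩ := hbK b hb
        exact ha k hk
      hcs := hcs
      hcslt := hcslt
      hωinj := hωinj
      hSlt := hSlt
      hS0 := hS0
      hT := hT }
  have hET : E ≤ T0 := by
    apply Subgroup.closure_mono
    intro g hg
    obtain ⟨a, ha, rfl⟩ := List.mem_map.1 hg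
    exact List.mem_map_of_mem (List.mem_append_right _ ha)
  have hKT : K ≤ T0 := hEeq ▸ hET
  -- (9)
  have hTle : Nat.card T0 ≤ nS * 2 ^ r := by
    rw [card_split T0 K]
    apply Nat.mul_le_mul
    · have := relIndex_le_card T0 K (Finset.range nS) (fun a i => PT ψ D om nΩ (Sig i) a)
        (fun a ha => by
          obtain ⟨i, hi, h⟩ := hT a ha
          exact ⟨i, Finset.mem_range.2 hi, h⟩)
        (fun a _ a' _ i h h' => by
          apply t.hstab
          intro k hk
          rw [map_mul, Equiv.Perm.mul_apply, (h' k hk).1, map_inv, Equiv.Perm.inv_eq_iff_eq,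
            (h k hk).1])
      simpa using this
    · rw [← hKc]; exact Subgroup.card_le_of_le inf_le_left
  -- (10)
  have hTge : nS * 2 ^ r ≤ Nat.card T0 := by
    have h := chain_cardC ψ T0 _ NT hNT (fun l => (tL ++ eL).contains l) kk (by
      intro l hl
      have hl' : l ∈ tL ++ eL := by simpa using hl
      exact ⟨γ l, Subgroup.subset_closure (List.mem_map_of_mem hl'), by
        rw [hψγ l (hL l hl'), wordPerm_single]⟩) levT [] c8
    rw [hpT, stabL_nil, inf_top_eq] at h
    refine le_trans (Nat.mul_le_mul_left _ ?_) h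
    rw [← hKc]
    apply Subgroup.card_le_of_le
    exact le_inf hKT (hEeq ▸ hEfix _ hbT)
  refine ⟨K, t, le_antisymm hTle hTge, ?_⟩
  intro l hl
  have h3 := c3 l hl
  have h4 := c4 l hl
  have h5 := c5 l hl
  rw [List.all_eq_true] at h3 h4
  rw [Bool.and_eq_true, List.all_eq_true, List.all_eq_true] at h5
  refine ⟨?_, ?_⟩
  · intro k hk
    constructor
    · rw [hψγ l (hLt l hl)]
      exact wordPerm_valS _ NT hNT [l] _ _ (h3 k (List.mem_range.2 hk))
    · have := weq _ _ (by
        intro x hx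
        rcases List.mem_cons.1 hx with rfl | hx
        · exact hLt _ hl
        · exact hLe _ (evW_mem _ _ _ hx)) (by
        intro x hx
        rcases List.mem_append.1 hx with hx | hx
        · exact hLe _ (evW_mem _ _ _ hx)
        · simp at hx; subst hx; exact hLt _ hl) (h4 k (List.mem_range.2 hk))
      rw [List.map_cons, List.prod_cons, List.map_append, List.prod_append, ← hDw, ← hDw] at this
      simp only [List.map_cons, List.map_nil, List.prod_cons, List.prod_nil, mul_one] at this
      show γ l * D k * (γ l)⁻¹ = D (tau l k)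
      rw [this, mul_assoc, mul_inv_cancel, mul_one]
  · intro k hk
    exact of_decide_eq_true (h5.1 k (List.mem_range.2 hk))

variable {ψ : G →* Equiv.Perm ℕ} {es : List G} {ω cs : ℕ → ℕ} {Sig : ℕ → ℕ → ℕ}
  {nΩ nS r : ℕ} {K T0 : Subgroup G}

theorem conj_gen (t : Tab ψ es ω cs Sig nΩ nS r K T0) (σ : ℕ → ℕ) (a : G)
    (ha : PT ψ (fun k => evL es (cs k)) ω nΩ σ a) (x : ℕ) :
    a * evL es x * a⁻¹ = evL es (xorL ((List.range r).map (fun l => cs (σ l))) x) := by
  rw [evL_map_conj, ← evL_evL es t.hCI]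
  congr 1
  apply List.ext_getElem
  · simp [t.hlen]
  · intro l h1 h2
    have hl : l < r := by simpa [t.hlen] using h1
    have h3 := (ha l (lt_of_lt_of_le hl t.hr)).2
    simp only [t.hcs l hl] at h3
    rw [evL_two_pow es l (by rw [t.hlen]; exact hl), List.getD_eq_getElem _ _ (by rw [t.hlen]; exact hl)]
      at h3
    simp only [List.getElem_map, List.getElem_range]
    exact h3

theorem center_mask (t : Tab ψ es ω cs Sig nΩ nS r K T0) (tL : List ℕ) (γ : ℕ → G)
    (tau : ℕ → ℕ → ℕ)
    (hPT : ∀ l ∈ tL, PT ψ (fun k => evL es (cs k)) ω nΩ (tau l) (γ l) ∧ ∀ k < nΩ, tau l k < nΩ)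
    (hcsinj : ∀ k < nΩ, ∀ k' < nΩ, cs k = cs k' → k = k')
    (z : G) (hz : z ∈ T0) (hze : ∀ e ∈ es, z * e = e * z) (hzt : ∀ l ∈ tL, z * γ l = γ l * z) :
    ∃ x < 2 ^ r, z = evL es x ∧
      ∀ l ∈ tL, xorL ((List.range r).map (fun j => cs (tau l j))) x = x := by
  have hcard : 2 ^ es.length ≤ Nat.card (Subgroup.closure {g | g ∈ es}) := by
    rw [← t.hK, t.hKc, t.hlen]
  have hinj := evL_inj es t.hCI hcard
  rw [t.hlen] at hinj
  obtain ⟨i, hi, hP⟩ := t.hT z hz
  have hfix : ∀ k < nΩ, Sig i k = k := by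
    intro k hk
    have h1 := (hP k hk).2
    simp only at h1
    rw [evL_comm z es hze (cs k), mul_assoc, mul_inv_cancel, mul_one] at h1
    have h2 := hinj _ (t.hcslt k hk) _ (t.hcslt _ (t.hSlt i hi k hk)) h1
    exact (hcsinj k hk _ (t.hSlt i hi k hk) h2).symm
  have hzK : z ∈ K := by
    apply t.hstab
    intro k hk
    rw [(hP k hk).1, hfix k hk]
  rw [t.hK] at hzK
  obtain ⟨x, hx, e⟩ := exists_evL es t.hCI z hzK
  rw [t.hlen] at hx
  refine ⟨x, hx, e.symm, ?_⟩
  intro l hl
  have h1 := conj_gen t (tau l) (γ l) (hPT l hl).1 x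
  rw [e, ← hzt l hl, mul_assoc, mul_inv_cancel, mul_one, ← e] at h1
  have hlt : xorL ((List.range r).map (fun j => cs (tau l j))) x < 2 ^ r := by
    apply xorL_lt
    intro m hm
    simp only [List.mem_map, List.mem_range] at hm
    obtain ⟨j, hj, rfl⟩ := hm
    exact t.hcslt _ ((hPT l hl).2 j (lt_of_lt_of_le hj t.hr))
  exact (hinj x hx _ hlt h1).symm

end

end Cfsg.Agent.Lib.Helper11.Out
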