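import Cfsg.Agent.Lib.Helper11.Out.ChkA
import Cfsg.Agent.Lib.Helper11.Out.ChkB
import Cfsg.Agent.Lib.Helper11.Out.Syl
import Cfsg.Agent.Lib.Helper11.Out.Dict
import Cfsg.Agent.S0472
import Cfsg.Prelude.Def_KGroupFacts

/-!
# Every automorphism of `Fi23` is inner
-/

set_option autoImplicit false
set_option maxRecDepth 100000

namespace Cfsg.Agent.Lib.Helper11.Out

open Cfsg.Agent.Lib.Helper11 Cfsg.Agent.Lib.Helper11.SylEA Cfsg.Agent.Lib.Helper3 Cfsg.Spor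
  Cfsg.Spor.Fi23

local notation "gm" => gam Fi23o.psi (ntOf F23S.ntl3)

/-- the transposition of the point `0` -/
noncomputable def t0 : Cfsg.Spor.Fi23 :=
  PresentedGroup.mk (coxRelators edges ∪ {r | r ∈ extra})
    (Fi23o.tE.eval (fun l => Fi23o.LTFm.getD l 1))

theorem dict : (∀ g : Cfsg.Spor.Fi23, Fi23o.psi g 0 = 0 ↔ g * t0 = t0 * g) ∧
    ∀ g : Cfsg.Spor.Fi23, Fi23o.psi g 0 < 31671 := by
  obtain ⟨hcard, hbot⟩ := Fi23o.order Cfsg.Agent.S1697.card_le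
  exact model_dict (PresentedGroup.mk (coxRelators edges ∪ {r | r ∈ extra})) _ Fi23o.psi
    (fun l => Fi23o.LTFm.getD l 1) Fi23o.INVm (ntOf Fi23o.ntl) 15 (ntOf_ok Fi23o.ntl _ Fi23o.netsOK)
    Fi23o.psi_eval Fi23o.hExps Fi23o.hS1 Fi23o.hS2 Fi23o.gExps Fi23o.hgen 31671 _ (by norm_num)
    Fi23a.upper Fi23o.hfix0 Fi23o.htr Fi23o.invnOK _ hbot Fi23o.hbn Fi23o.primL Fi23o.primOK
    Cfsg.Agent.S1697.perfect Fi23o.tE Fi23o.normOK Cfsg.Agent.S1697.ncl Cfsg.Agent.S0472.t_sq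

theorem threeT : Cfsg.IsThreeTranspositionClass (conjugatesOf t0) := by
  obtain ⟨hcard, hbot⟩ := Fi23o.order Cfsg.Agent.S1697.card_le
  exact (model_threeTr (PresentedGroup.mk (coxRelators edges ∪ {r | r ∈ extra})) _ Fi23o.psi
    (fun l => Fi23o.LTFm.getD l 1) Fi23o.INVm (ntOf Fi23o.ntl) 15 (ntOf_ok Fi23o.ntl _ Fi23o.netsOK)
    Fi23o.psi_eval Fi23o.hExps Fi23o.hS1 Fi23o.hS2 Fi23o.gExps Fi23o.hgen 31671 _ (by norm_num)
    Fi23a.upper Fi23o.hfix0 Fi23o.htr Fi23o.invnOK _ hbot Fi23o.hbn Fi23o.primL Fi23o.primOK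
    Cfsg.Agent.S1697.perfect Fi23o.tE Fi23o.normOK Cfsg.Agent.S1697.ncl Cfsg.Agent.S0472.t_sq
    Cfsg.Agent.S0472.relOK).1

theorem nt_eq (l : ℕ) (hl : l < 11) : ntOf Fi23o.ntl l = ntOf F23S.ntl3 l := by
  unfold ntOf F23S.ntl3
  have hlen : Fi23o.ntl.length = 11 := by decide +kernel
  rw [List.getD_append _ _ _ _ (by omega)]

theorem wp_eq (w : List ℕ) (hw : ∀ l ∈ w, l < 11) :
    wordPerm (ntOf Fi23o.ntl) w = wordPerm (ntOf F23S.ntl3) w := by
  unfold wordPerm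
  congr 1
  apply List.map_congr_left
  intro l hl
  rw [nt_eq l (hw l hl)]

theorem t0_eq : t0 = (tW.map gm).prod := by
  apply F23S.hinj
  rw [psi_wd Fi23o.psi _ 32 F23S.hrange tW (by decide)]
  unfold t0
  rw [Fi23o.psi_eval, tW_eq]
  exact wp_eq tW (by decide)

theorem weq (w1 w2 : List ℕ) (h1 : ∀ l ∈ w1, l < 32) (h2 : ∀ l ∈ w2, l < 32)
    (h : wordEq (ntOf F23S.ntl3) 15 w1 w2 = true) : (w1.map gm).prod = (w2.map gm).prod :=
  eq_of_wordEq Fi23o.psi F23S.hinj (ntOf F23S.ntl3) 15 F23S.hNT 32 F23S.hrange w1 w2 h1 h2 h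

theorem uB_lt : ∀ m < 11, ∀ l ∈ uB m, l < 32 := by decide

theorem tW_lt : ∀ l ∈ tW, l < 32 := by decide

theorem gm_conj (m : ℕ) (h1 : 1 ≤ m) (h2 : m ≤ 10) :
    ∃ u, gm m = u * t0 * u⁻¹ ∧ Fi23o.psi u 0 = omB m := by
  have h := uChk
  rw [List.all_eq_true] at h
  have hm := h m (List.mem_range.2 (by omega))
  simp only [Bool.or_eq_true, beq_iff_eq, Bool.and_eq_true] at hm
  rcases hm with hm | ⟨hm1, hm2⟩
  · omega
  have hu : ∀ l ∈ uB m, l < 32 := uB_lt m (by omega)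
  refine ⟨((uB m).map gm).prod, ?_, ?_⟩
  · have := weq (m :: uB m) (uB m ++ tW) (by
      intro l hl
      rcases List.mem_cons.1 hl with rfl | hl
      · omega
      · exact hu l hl) (by
      intro l hl
      rcases List.mem_append.1 hl with hl | hl
      · exact hu l hl
      · exact tW_lt l hl) hm1
    rw [List.map_cons, List.prod_cons, List.map_append, List.prod_append, ← t0_eq] at this
    rw [← this]; group
  · rw [psi_wd Fi23o.psi _ 32 F23S.hrange _ hu]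
    exact wordPerm_valS _ _ F23S.hNT _ _ _ hm2

theorem gm_gen (e : WExp) (he : e ∈ Fi23o.gExps) : ∃ m, 1 ≤ m ∧ m ≤ 10 ∧
    PresentedGroup.mk (coxRelators edges ∪ {r | r ∈ extra})
      (e.eval (fun n => Fi23o.LTFm.getD n 1)) = gm m := by
  have key : ∀ m, 1 ≤ m → m ≤ 10 → PresentedGroup.mk (coxRelators edges ∪ {r | r ∈ extra})
      ((WExp.l m).eval (fun n => Fi23o.LTFm.getD n 1)) = gm m := by
    intro m h1 h2
    apply F23S.hinj
    rw [Fi23o.psi_eval, psi_gam Fi23o.psi _ m (F23S.hrange m (by omega))]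
    show wordPerm (ntOf Fi23o.ntl) [m] = _
    rw [wordPerm_single, nt_eq m (by omega)]
  simp only [Fi23o.gExps, List.mem_cons, List.mem_nil_iff, or_false] at he
  rcases he with rfl | rfl | rfl | rfl | rfl | rfl | rfl | rfl | rfl | rfl
  · exact ⟨1, by norm_num, by norm_num, key 1 (by norm_num) (by norm_num)⟩
  · exact ⟨2, by norm_num, by norm_num, key 2 (by norm_num) (by norm_num)⟩
  · exact ⟨3, by norm_num, by norm_num, key 3 (by norm_num) (by norm_num)⟩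
  · exact ⟨4, by norm_num, by norm_num, key 4 (by norm_num) (by norm_num)⟩
  · exact ⟨5, by norm_num, by norm_num, key 5 (by norm_num) (by norm_num)⟩
  · exact ⟨6, by norm_num, by norm_num, key 6 (by norm_num) (by norm_num)⟩
  · exact ⟨7, by norm_num, by norm_num, key 7 (by norm_num) (by norm_num)⟩
  · exact ⟨8, by norm_num, by norm_num, key 8 (by norm_num) (by norm_num)⟩
  · exact ⟨9, by norm_num, by norm_num, key 9 (by norm_num) (by norm_num)⟩
  · exact ⟨10, by norm_num, by norm_num, key 10 (by norm_num) (by norm_num)⟩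

theorem ext1 (α : MulAut Cfsg.Spor.Fi23)
    (hD : ∀ m, 1 ≤ m → m ≤ 10 → ∃ g, α (gm m) = g * t0 * g⁻¹)
    (prev : List ℕ) (nw : ℕ) (moves : List (List ℕ)) (r : ℕ)
    (hp : ∀ m ∈ prev, 1 ≤ m ∧ m ≤ 10 ∧ omB nw ≠ omB m) (hn : 1 ≤ nw ∧ nw ≤ 10)
    (hchk : stepChk (ntOf F23S.ntl3) 15 31671 32 omB prev nw moves r = true)
    (hP : ∃ g, ∀ m ∈ prev, g * α (gm m) * g⁻¹ = gm m) :
    ∃ g, ∀ m ∈ nw :: prev, g * α (gm m) * g⁻¹ = gm m :=
  extend Fi23o.psi t0 dict.1 (ntOf F23S.ntl3) 15 F23S.hNT 32 F23S.hrange 31671 (by norm_num) dict.2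
    omB (fun m => α (gm m)) prev nw moves r
    (fun m hm => ⟨by have := hp m hm; omega, gm_conj m (hp m hm).1 (hp m hm).2.1⟩)
    (gm_conj nw hn.1 hn.2) hchk hP (hD nw hn.1 hn.2)
    (fun m hm => by
      show α (gm m) * α (gm nw) = α (gm nw) * α (gm m) ↔ _
      rw [← map_mul, ← map_mul]; exact α.injective.eq_iff)
    (fun m hm e => by
      have e' : gm nw = gm m := α.injective e
      obtain ⟨u, hu, hu0⟩ := gm_conj nw hn.1 hn.2
      obtain ⟨u', hu', hu0'⟩ := gm_conj m (hp m hm).1 (hp m hm).2.1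
      rw [hu, hu'] at e'
      have := (conj_eq_iff Fi23o.psi t0 dict.1 u u').1 e'
      rw [hu0, hu0'] at this
      exact (hp m hm).2.2 this)

theorem rigid (α : MulAut Cfsg.Spor.Fi23)
    (hD : ∀ m, 1 ≤ m → m ≤ 10 → ∃ g, α (gm m) = g * t0 * g⁻¹) :
    ∃ g, ∀ m ∈ [10, 4, 9, 8, 7, 6, 5, 3, 2, 1], g * α (gm m) * g⁻¹ = gm m := by
  have h0 := ext1 α hD [] 1 mv0 5 (by decide) (by decide) sc0 ⟨1, by simp⟩
  have h1 := ext1 α hD _ 2 mv1 4 (by decide) (by decide) sc1 h0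
  have h2 := ext1 α hD _ 3 mv2 4 (by decide) (by decide) sc2 h1
  have h3 := ext1 α hD _ 5 mv3 3 (by decide) (by decide) sc3 h2
  have h4 := ext1 α hD _ 6 mv4 2 (by decide) (by decide) sc4 h3
  have h5 := ext1 α hD _ 7 mv5 2 (by decide) (by decide) sc5 h4
  have h6 := ext1 α hD _ 8 mv6 1 (by decide) (by decide) sc6 h5
  have h7 := ext1 α hD _ 9 mv7 1 (by decide) (by decide) sc7 h6
  have h8 := ext1 α hD _ 4 mv8 1 (by decide) (by decide) sc8 h7
  exact ext1 α hD _ 10 mv9 0 (by decide) (by decide) sc9 h8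

end Cfsg.Agent.Lib.Helper11.Out
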