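import Cfsg.Agent.Lib.Helper11.Out.Main

/-!
# Every automorphism of `Fi23` is inner: the class of the transpositions is invariant
-/

set_option autoImplicit false
set_option maxRecDepth 100000

namespace Cfsg.Agent.Lib.Helper11.Out

open Cfsg.Agent.Lib.Helper11 Cfsg.Agent.Lib.Helper11.SylEA Cfsg.Agent.Lib.Helper3 Cfsg.Spor
  Cfsg.Spor.Fi23

local notation "gm" => gam Fi23o.psi (ntOf F23S.ntl3)

theorem ne_one_of_pt (w : List ℕ) (hw : ∀ l ∈ w, l < 32) (p q : ℕ) (hpq : p ≠ q)
    (h : Nat.beq (applyWord (ntOf F23S.ntl3) w (Nat.pow 2 q)) (Nat.pow 2 p) = true) :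
    (w.map gm).prod ≠ 1 := by
  intro e
  have h1 := psi_wd Fi23o.psi (ntOf F23S.ntl3) 32 F23S.hrange w hw
  rw [e, map_one] at h1
  have h2 := wordPerm_valS _ (ntOf F23S.ntl3) F23S.hNT w p q h
  rw [← h1] at h2
  exact hpq (by simpa using h2)

theorem fac2 : (Nat.card Cfsg.Spor.Fi23).factorization 2 = 18 := by
  rw [F23S.hcard]
  have h : (4089470473293004800 : ℕ) = 2 ^ 18 * 15600091832325 := by norm_num
  rw [h, Nat.factorization_mul (by norm_num) (by norm_num), Nat.Prime.factorization_pow Nat.prime_two]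
  have h2 : (15600091832325 : ℕ).factorization 2 = 0 :=
    Nat.factorization_eq_zero_of_not_dvd (by norm_num)
  simp [h2]

/-- an automorphism can be corrected by an inner one so as to normalise a Sylow subgroup -/
theorem sylow_fix {G : Type*} [Group G] [Finite G] (N : ℕ) (T0 : Subgroup G)
    (hT0 : Nat.card T0 = 2 ^ N) (hG : (Nat.card G).factorization 2 = N) (α : MulAut G) :
    ∃ g : G, (∀ y ∈ T0, g * α y * g⁻¹ ∈ T0) ∧ ∀ y ∈ T0, ∃ y' ∈ T0, y = g * α y' * g⁻¹ := by
  haveI : Fact (Nat.Prime 2) := ⟨Nat.prime_two⟩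
  obtain ⟨P0, hP0⟩ := (IsPGroup.of_card hT0).exists_le_sylow
  have hc : ∀ P : Sylow 2 G, Nat.card (P : Subgroup G) = 2 ^ N := fun P => by
    rw [Sylow.card_eq_multiplicity, hG]
  have hTP : T0 = P0 := Subgroup.eq_of_le_of_card_ge hP0 (by rw [hc, hT0])
  have hcα : Nat.card (T0.map α.toMonoidHom) = 2 ^ N := by
    rw [Subgroup.card_map_of_injective α.injective, hT0]
  obtain ⟨P1, hP1⟩ := (IsPGroup.of_card hcα).exists_le_sylow
  have hTP1 : T0.map α.toMonoidHom = P1 := Subgroup.eq_of_le_of_card_ge hP1 (by rw [hc, hcα])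
  obtain ⟨g, hg⟩ := MulAction.exists_smul_eq G P1 P0
  have hT : T0 = (T0.map α.toMonoidHom).map (MulAut.conj g).toMonoidHom := by
    rw [hTP1]
    conv_lhs => rw [hTP, ← hg, Sylow.coe_subgroup_smul]
    rfl
  refine ⟨g, ?_, ?_⟩
  · intro y hy
    rw [hT]
    exact ⟨α y, ⟨y, hy, rfl⟩, rfl⟩
  · intro y hy
    rw [hT] at hy
    obtain ⟨_, ⟨y', hy', rfl⟩, rfl⟩ := hy
    exact ⟨y', hy', rfl⟩

theorem tLeL_lt : ∀ l ∈ F23S.tL ++ F23S.eL, l < 32 := by decide

theorem gm19 : gm 19 = (vW.map gm).prod * t0 * ((vW.map gm).prod)⁻¹ := by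
  have := weq (19 :: vW) (vW ++ tW) (by decide) (by decide) a1
  rw [List.map_cons, List.prod_cons, List.map_append, List.prod_append, ← t0_eq] at this
  rw [← this]; group

theorem gm19_mem : gm 19 ∈ conjugatesOf t0 := by
  rw [mem_conjOf_iff, isConj_iff]
  exact ⟨_, gm19.symm⟩

set_option maxHeartbeats 1000000 in
theorem aut_z1 (α : MulAut Cfsg.Spor.Fi23) : ∃ g, α (gm 19) = g * gm 19 * g⁻¹ := by
  haveI : Finite Cfsg.Spor.Fi23 := Nat.finite_of_card_ne_zero Cfsg.Agent.S1697.card_le.1
  obtain ⟨K, t, hT0c, hPT⟩ := master2 Fi23o.psi F23S.hinj (ntOf F23S.ntl3) 15 F23S.hNT 32 F23S.hrange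
    F23S.eL F23S.tL (by decide) F23S.om F23S.cs F23S.Sig F23S.tau
    23 128 11 F23S.levK F23S.levE F23S.levT F23S.c1 F23S.c2 F23S.c3 F23S.c4 F23S.c5 F23S.c6 F23S.c7
    F23S.c8 rfl (by norm_num) (by norm_num)
    (by decide) (by decide) (by decide) (by decide +kernel) (by decide) (by decide) (by decide)
    (by rw [F23S.hcard]; decide +kernel) (by decide +kernel) (by decide +kernel)
  set T0 : Subgroup Cfsg.Spor.Fi23 :=
    Subgroup.closure {g | g ∈ (F23S.tL ++ F23S.eL).map gm} with hT0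
  obtain ⟨g, hg1, hg2⟩ := sylow_fix 18 T0 (by rw [hT0c]; norm_num) fac2 α
  have hgenT : ∀ l ∈ F23S.tL ++ F23S.eL, gm l ∈ T0 := fun l hl =>
    Subgroup.subset_closure (List.mem_map_of_mem hl)
  have hz1T : gm 19 ∈ T0 := hgenT 19 (by decide)
  have hz1c : ∀ y ∈ T0, gm 19 * y = y * gm 19 := by
    have hle : T0 ≤ Subgroup.centralizer {gm 19} := by
      rw [hT0, Subgroup.closure_le]
      intro y hy
      obtain ⟨l, hl, rfl⟩ := List.mem_map.1 hy
      rw [SetLike.mem_coe, Subgroup.mem_centralizer_iff]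
      intro x hx
      rw [Set.mem_singleton_iff] at hx
      subst hx
      have h := a2
      rw [List.all_eq_true] at h
      have hl32 : l < 32 := tLeL_lt l hl
      have := weq [19, l] [l, 19] (by
        intro x hx
        simp only [List.mem_cons, List.mem_nil_iff, or_false] at hx
        rcases hx with rfl | rfl
        · norm_num
        · exact hl32) (by
        intro x hx
        simp only [List.mem_cons, List.mem_nil_iff, or_false] at hx
        rcases hx with rfl | rfl
        · exact hl32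
        · norm_num) (h l hl)
      simpa using this
    intro y hy
    have := hle hy
    rw [Subgroup.mem_centralizer_iff] at this
    exact this _ rfl
  set z := g * α (gm 19) * g⁻¹ with hz
  have hzT : z ∈ T0 := hg1 _ hz1T
  have hzc : ∀ y ∈ T0, z * y = y * z := by
    intro y hy
    obtain ⟨y', hy', rfl⟩ := hg2 y hy
    have h1 : α (gm 19) * α y' = α y' * α (gm 19) := by rw [← map_mul, ← map_mul, hz1c y' hy']
    calc z * (g * α y' * g⁻¹) = g * (α (gm 19) * α y') * g⁻¹ := by rw [hz]; group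
      _ = g * (α y' * α (gm 19)) * g⁻¹ := by rw [h1]
      _ = _ := by rw [hz]; group
  obtain ⟨x, hx, hzx, hfx⟩ := center_mask t F23S.tL gm F23S.tau hPT a4 z hzT
    (fun e he => by
      obtain ⟨l, hl, rfl⟩ := List.mem_map.1 he
      exact hzc _ (hgenT l (List.mem_append_right _ hl)))
    (fun l hl => hzc _ (hgenT l (List.mem_append_left _ hl)))
  have hx4 : x = 0 ∨ x = 2 ∨ x = 20 ∨ x = 22 := by
    have h := a3
    rw [List.all_eq_true] at h
    have h1 := h x (List.mem_range.2 (by simpa using hx))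
    simp only [Bool.or_eq_true, Bool.not_eq_true', beq_iff_eq] at h1
    rcases h1 with h1 | h1
    · exfalso
      have h2 : (F23S.tL.all (fun l =>
          xorL ((List.range 11).map (fun j => F23S.cs (F23S.tau l j))) x == x)) = true := by
        rw [List.all_eq_true]
        intro l hl
        simpa using hfx l hl
      rw [h2] at h1
      exact absurd h1 (by simp)
    · exact h1
  -- the 3-transposition property of `z`
  have h3 : ∀ h : Cfsg.Spor.Fi23, (z * (h * z * h⁻¹)) ^ 2 = 1 ∨ (z * (h * z * h⁻¹)) ^ 3 = 1 := by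
    intro h
    set h' := α.symm (g⁻¹ * h * g) with hh'
    have hαh : α h' = g⁻¹ * h * g := α.apply_symm_apply _
    have hmem : h' * gm 19 * h'⁻¹ ∈ conjugatesOf t0 := by
      rw [mem_conjOf_iff, isConj_iff]
      exact ⟨h' * (vW.map gm).prod, by rw [gm19]; group⟩
    have e1 : ∀ k : ℕ, (z * (h * z * h⁻¹)) ^ k =
        g * α ((gm 19 * (h' * gm 19 * h'⁻¹)) ^ k) * g⁻¹ := by
      intro k
      rw [map_pow, ← conj_pow]
      congr 1
      rw [map_mul, map_mul, map_mul, map_inv, hαh, hz]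
      group
    rcases threeT.1.2 _ gm19_mem _ hmem with h2 | h2
    · left; rw [e1, h2, map_one]; group
    · right; rw [e1, h2, map_one]; group
  have hinv : (gm 1 * gm 2)⁻¹ = gm 2 * gm 1 := by
    have := weq [1, 2, 2, 1] [] (by decide) (by decide) a5
    simp only [List.map_cons, List.map_nil, List.prod_cons, List.prod_nil, mul_one] at this
    apply inv_eq_of_mul_eq_one_right
    rw [← this]; group
  have hev : ∀ x, evL (F23S.eL.map gm) x = ((evW F23S.eL x).map gm).prod := evL_map gm F23S.eL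
  rcases hx4 with rfl | rfl | rfl | rfl
  · exfalso
    rw [evL_zero] at hzx
    have h1 : α (gm 19) = 1 := by
      have : α (gm 19) = g⁻¹ * z * g := by rw [hz]; group
      rw [this, hzx]; group
    have h2 : gm 19 = 1 := by
      apply α.injective; rw [h1, map_one]
    have h4 := threeT.1.1 _ gm19_mem
    rw [h2, orderOf_one] at h4
    exact absurd h4 (by norm_num)
  · rw [hev, e2] at hzx
    simp only [List.map_cons, List.map_nil, List.prod_cons, List.prod_nil, mul_one] at hzx
    refine ⟨g⁻¹, ?_⟩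
    have h5 : α (gm 19) = g⁻¹ * z * g := by rw [hz]; group
    rw [h5, hzx, inv_inv]
  · exfalso
    rw [hev, e20] at hzx
    simp only [List.map_cons, List.map_nil, List.prod_cons, List.prod_nil, mul_one] at hzx
    have hW : z * ((gm 1 * gm 2) * z * (gm 1 * gm 2)⁻¹) = (W2.map gm).prod := by
      rw [hinv, hzx]
      simp only [W2, List.map_cons, List.map_nil, List.prod_cons, List.prod_nil, mul_one]
      group
    rcases h3 (gm 1 * gm 2) with h2 | h2
    · rw [hW] at h2
      apply ne_one_of_pt (W2 ++ W2) (by decide) 1 3255 (by norm_num) a6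
      rw [List.map_append, List.prod_append, ← h2, pow_two]
    · rw [hW] at h2
      apply ne_one_of_pt (W2 ++ W2 ++ W2) (by decide) 1 800 (by norm_num) a7
      rw [List.map_append, List.prod_append, List.map_append, List.prod_append, ← h2, pow_three,
        mul_assoc]
  · exfalso
    rw [hev, e22] at hzx
    simp only [List.map_cons, List.map_nil, List.prod_cons, List.prod_nil, mul_one] at hzx
    have hW : z * ((gm 1 * gm 2) * z * (gm 1 * gm 2)⁻¹) = (W3.map gm).prod := by
      rw [hinv, hzx]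
      simp only [W3, List.map_cons, List.map_nil, List.prod_cons, List.prod_nil, mul_one]
      group
    rcases h3 (gm 1 * gm 2) with h2 | h2
    · rw [hW] at h2
      apply ne_one_of_pt (W3 ++ W3) (by decide) 1 514 (by norm_num) a8
      rw [List.map_append, List.prod_append, ← h2, pow_two]
    · rw [hW] at h2
      apply ne_one_of_pt (W3 ++ W3 ++ W3) (by decide) 2 32 (by norm_num) a9
      rw [List.map_append, List.prod_append, List.map_append, List.prod_append, ← h2, pow_three,
        mul_assoc]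

theorem all_inner (α : MulAut Cfsg.Spor.Fi23) : α ∈ Cfsg.Inn Cfsg.Spor.Fi23 := by
  obtain ⟨g1, hg1⟩ := aut_z1 α
  set v := (vW.map gm).prod with hv
  have ht0 : ∃ g, α t0 = g * t0 * g⁻¹ := by
    have h19 : gm 19 = v * t0 * v⁻¹ := gm19
    have e : t0 = v⁻¹ * gm 19 * v := by rw [h19]; group
    refine ⟨(α v)⁻¹ * g1 * v, ?_⟩
    conv_lhs => rw [e, map_mul, map_mul, map_inv, hg1, h19]
    group
  have hD : ∀ m, 1 ≤ m → m ≤ 10 → ∃ g, α (gm m) = g * t0 * g⁻¹ := by
    intro m h1 h2
    obtain ⟨u, hu, _⟩ := gm_conj m h1 h2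
    obtain ⟨g, hg⟩ := ht0
    exact ⟨α u * g, by rw [hu, map_mul, map_mul, map_inv, hg]; group⟩
  obtain ⟨g, hg⟩ := rigid α hD
  refine ⟨g⁻¹, ?_⟩
  apply MulEquiv.toMonoidHom_injective
  apply MonoidHom.eq_of_eqOn_dense Fi23o.hgenTop
  rintro _ ⟨e, he, rfl⟩
  obtain ⟨m, h1, h2, hm⟩ := gm_gen e he
  rw [hm]
  show g⁻¹ * gm m * g⁻¹⁻¹ = α (gm m)
  conv_lhs => rw [← hg m (by interval_cases m <;> simp)]
  group

theorem card_out : Nat.card (Cfsg.Out Cfsg.Spor.Fi23) = 1 := by
  have h : Cfsg.Inn Cfsg.Spor.Fi23 = ⊤ := eq_top_iff.2 (fun α _ => all_inner α)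
  exact Subgroup.index_eq_one.2 h

end Cfsg.Agent.Lib.Helper11.Out
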