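import Cfsg.Agent.Lib.Helper11.SylEA

/-!
# Rigidity of tuples in a conjugacy class, from orbit computations in a permutation model
-/

set_option autoImplicit false

namespace Cfsg.Agent.Lib.Helper11.Out

open Cfsg.Agent.Lib.Helper11 Cfsg.Agent.Lib.Helper11.SylEA

/-- the set of the points `p < 2^kk` moved by a word -/
noncomputable def movedMask (NT : ℕ → List (ℕ × ℕ)) (kk : ℕ) (w : List ℕ) : ℕ :=
  Nat.rec (motive := fun _ => ℕ) 0
    (fun j ih => Nat.lor ih (Nat.xor (applyWord NT w (tvec j kk)) (tvec j kk))) kk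

theorem movedMask_spec (NT : ℕ → List (ℕ × ℕ)) (kk : ℕ)
    (hNT : ∀ l, ∀ st ∈ NT l, stOK (2 ^ (2 ^ kk)) st = true) (w : List ℕ) (p : ℕ) (hp : p < 2 ^ kk) :
    (movedMask NT kk w).testBit p = true ↔ wordPerm NT w p ≠ p := by
  set π := wordPerm NT w with hπ
  have hbig : ∀ q, 2 ^ kk ≤ q → π q = q := wordPerm_big (2 ^ kk) NT hNT w
  have hq : π p < 2 ^ kk := by
    by_contra hq
    have h2 := hbig (π p) (by omega)
    have := π.injective h2
    omega
  have aux : ∀ k', (Nat.rec (motive := fun _ => ℕ) 0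
      (fun j ih => Nat.lor ih (Nat.xor (applyWord NT w (tvec j kk)) (tvec j kk))) k' : ℕ).testBit p = true ↔
      ∃ j < k', (π p).testBit j ≠ p.testBit j := by
    intro k'
    induction k' with
    | zero => simp
    | succ k' ih =>
      have e : (Nat.rec (motive := fun _ => ℕ) 0
          (fun j ih => Nat.lor ih (Nat.xor (applyWord NT w (tvec j kk)) (tvec j kk))) (k' + 1) : ℕ) =
          (Nat.rec (motive := fun _ => ℕ) 0
          (fun j ih => Nat.lor ih (Nat.xor (applyWord NT w (tvec j kk)) (tvec j kk))) k' : ℕ) |||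
          (applyWord NT w (tvec k' kk) ^^^ tvec k' kk) := rfl
      rw [e, Nat.testBit_or, Bool.or_eq_true, ih, Nat.testBit_xor,
        applyWord_spec _ NT hNT w (tvec k' kk) p, tvec_spec, tvec_spec]
      have e1 : (w.map fun l => netPerm (NT l)).prod p = π p := rfl
      rw [e1]
      simp only [hq, hp, decide_true, Bool.true_and]
      constructor
      · rintro (⟨j, hj, h⟩ | h)
        · exact ⟨j, by omega, h⟩
        · exact ⟨k', by omega, by simpa using h⟩
      · rintro ⟨j, hj, h⟩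
        by_cases hjk : j = k'
        · subst hjk; right; simpa using h
        · left; exact ⟨j, by omega, h⟩
  unfold movedMask
  rw [aux]
  constructor
  · rintro ⟨j, _, h⟩ e
    rw [e] at h
    exact h rfl
  · intro h
    by_contra hcon
    push Not at hcon
    apply h
    apply Nat.eq_of_testBit_eq
    intro j
    by_cases hj : j < kk
    · exact hcon j hj
    · have hle : 2 ^ kk ≤ 2 ^ j := Nat.pow_le_pow_right (by norm_num) (by omega)
      rw [Nat.testBit_lt_two_pow (lt_of_lt_of_le hq hle), Nat.testBit_lt_two_pow (lt_of_lt_of_le hp hle)]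

/-- all points -/
noncomputable def fullMask (kk : ℕ) : ℕ := Nat.sub (Nat.pow 2 (Nat.pow 2 kk)) 1

theorem fullMask_testBit (kk p : ℕ) (hp : p < 2 ^ kk) : (fullMask kk).testBit p = true := by
  show (2 ^ (2 ^ kk) - 1).testBit p = true
  rw [Nat.testBit_two_pow_sub_one]
  simpa using hp

/-- the moved points or the fixed points of a letter, according to the behaviour at `q` -/
noncomputable def selMask (NT : ℕ → List (ℕ × ℕ)) (kk q m : ℕ) : ℕ :=
  (fun M : ℕ => Bool.rec (Nat.xor M (fullMask kk)) M (Nat.testBit M q)) (movedMask NT kk [m])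

theorem selMask_testBit (NT : ℕ → List (ℕ × ℕ)) (kk : ℕ)
    (hNT : ∀ l, ∀ st ∈ NT l, stOK (2 ^ (2 ^ kk)) st = true) (q m p : ℕ) (hq : q < 2 ^ kk)
    (hp : p < 2 ^ kk) (h : wordPerm NT [m] p ≠ p ↔ wordPerm NT [m] q ≠ q) :
    (selMask NT kk q m).testBit p = true := by
  have e : selMask NT kk q m = (Bool.rec (Nat.xor (movedMask NT kk [m]) (fullMask kk))
      (movedMask NT kk [m]) (Nat.testBit (movedMask NT kk [m]) q) : ℕ) := rfl
  rw [e]
  have h1 := movedMask_spec NT kk hNT [m] p hp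
  have h2 := movedMask_spec NT kk hNT [m] q hq
  cases hb : Nat.testBit (movedMask NT kk [m]) q with
  | true =>
    show (movedMask NT kk [m]).testBit p = true
    exact h1.2 (h.2 (h2.1 hb))
  | false =>
    show (movedMask NT kk [m] ^^^ fullMask kk).testBit p = true
    rw [Nat.testBit_xor, fullMask_testBit kk p hp]
    have h3 : ¬ (movedMask NT kk [m]).testBit p = true := by
      intro h4
      have := h2.2 (h.1 (h1.1 h4))
      rw [hb] at this
      exact absurd this (by simp)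
    simpa using h3

/-- the candidate points -/
noncomputable def candMask (NT : ℕ → List (ℕ × ℕ)) (kk : ℕ) (ω : ℕ → ℕ) (q : ℕ) : List ℕ → ℕ → ℕ
  | [], V => V
  | m :: prev, V => candMask NT kk ω q prev
      (Nat.land (Nat.land V (selMask NT kk q m)) (Nat.xor (fullMask kk) (Nat.pow 2 (ω m))))

theorem candMask_testBit (NT : ℕ → List (ℕ × ℕ)) (kk : ℕ)
    (hNT : ∀ l, ∀ st ∈ NT l, stOK (2 ^ (2 ^ kk)) st = true) (ω : ℕ → ℕ) (q p : ℕ) (hq : q < 2 ^ kk)
    (hp : p < 2 ^ kk) : ∀ (prev : List ℕ) (V : ℕ), V.testBit p = true →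
    (∀ m ∈ prev, (wordPerm NT [m] p ≠ p ↔ wordPerm NT [m] q ≠ q) ∧ p ≠ ω m) →
    (candMask NT kk ω q prev V).testBit p = true := by
  intro prev
  induction prev with
  | nil => intro V hV _; exact hV
  | cons m prev ih =>
    intro V hV h
    apply ih
    · show ((V &&& selMask NT kk q m) &&& (fullMask kk ^^^ 2 ^ (ω m))).testBit p = true
      rw [Nat.testBit_and, Nat.testBit_and, hV,
        selMask_testBit NT kk hNT q m p hq hp (h m List.mem_cons_self).1, Nat.testBit_xor,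
        fullMask_testBit kk p hp, Nat.testBit_two_pow]
      have : ω m ≠ p := fun e => (h m List.mem_cons_self).2 e.symm
      simp [this]
    · intro m' hm'
      exact h m' (List.mem_cons_of_mem _ hm')

/-- the check of one level -/
noncomputable def stepChk (NT : ℕ → List (ℕ × ℕ)) (kk n Lmax : ℕ) (ω : ℕ → ℕ) (prev : List ℕ) (nw : ℕ)
    (moves : List (List ℕ)) (r : ℕ) : Bool :=
  moves.all (fun w => w.all (fun l => decide (l < Lmax)) &&
    prev.all (fun m => Nat.beq (applyWord NT w (Nat.pow 2 (ω m))) (Nat.pow 2 (ω m)))) &&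
  (fun V : ℕ => Nat.beq (Nat.land V (grow NT moves r (Nat.pow 2 (ω nw)))) V)
    (candMask NT kk ω (ω nw) prev (ivl 0 n))

section

variable {G : Type*} [Group G] (ψ : G →* Equiv.Perm ℕ) (t₀ : G)
  (hdict : ∀ g, ψ g 0 = 0 ↔ g * t₀ = t₀ * g)

include hdict

theorem comm_iff_fix (x g : G) :
    x * (g * t₀ * g⁻¹) = (g * t₀ * g⁻¹) * x ↔ ψ x (ψ g 0) = ψ g 0 := by
  constructor
  · intro h
    have h1 : (g⁻¹ * x * g) * t₀ = t₀ * (g⁻¹ * x * g) := by
      calc (g⁻¹ * x * g) * t₀ = g⁻¹ * (x * (g * t₀ * g⁻¹)) * g := by group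
        _ = g⁻¹ * ((g * t₀ * g⁻¹) * x) * g := by rw [h]
        _ = _ := by group
    have h2 := (hdict _).2 h1
    rw [map_mul, map_mul, map_inv, Equiv.Perm.mul_apply, Equiv.Perm.mul_apply,
      Equiv.Perm.inv_eq_iff_eq] at h2
    exact h2
  · intro h
    have h2 : ψ (g⁻¹ * x * g) 0 = 0 := by
      rw [map_mul, map_mul, map_inv, Equiv.Perm.mul_apply, Equiv.Perm.mul_apply, h]
      simp
    have h1 := (hdict _).1 h2
    calc x * (g * t₀ * g⁻¹) = g * ((g⁻¹ * x * g) * t₀) * g⁻¹ := by group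
      _ = g * (t₀ * (g⁻¹ * x * g)) * g⁻¹ := by rw [h1]
      _ = _ := by group

theorem conj_eq_iff (g g' : G) : g * t₀ * g⁻¹ = g' * t₀ * g'⁻¹ ↔ ψ g 0 = ψ g' 0 := by
  constructor
  · intro h
    have h1 : (g'⁻¹ * g) * t₀ = t₀ * (g'⁻¹ * g) := by
      calc (g'⁻¹ * g) * t₀ = g'⁻¹ * (g * t₀ * g⁻¹) * g := by group
        _ = g'⁻¹ * (g' * t₀ * g'⁻¹) * g := by rw [h]
        _ = _ := by group
    have h2 := (hdict _).2 h1
    rw [map_mul, map_inv, Equiv.Perm.mul_apply, Equiv.Perm.inv_eq_iff_eq] at h2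
    exact h2
  · intro h
    have h2 : ψ (g'⁻¹ * g) 0 = 0 := by
      rw [map_mul, map_inv, Equiv.Perm.mul_apply, h]
      simp
    have h1 := (hdict _).1 h2
    calc g * t₀ * g⁻¹ = g' * ((g'⁻¹ * g) * t₀) * g⁻¹ := by group
      _ = g' * (t₀ * (g'⁻¹ * g)) * g⁻¹ := by rw [h1]
      _ = _ := by group

variable (NT : ℕ → List (ℕ × ℕ)) (kk : ℕ)
  (hNT : ∀ l, ∀ st ∈ NT l, stOK (2 ^ (2 ^ kk)) st = true)
  (Lmax : ℕ) (hrange : ∀ l < Lmax, netPerm (NT l) ∈ ψ.range)
  (n : ℕ) (hn : n ≤ 2 ^ kk) (hlt : ∀ g : G, ψ g 0 < n) (ω : ℕ → ℕ)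

include hNT hrange hn hlt

theorem step (prev : List ℕ) (nw : ℕ) (moves : List (List ℕ)) (r : ℕ)
    (hprev : ∀ m ∈ prev, m < Lmax ∧ ∃ u, gam ψ NT m = u * t₀ * u⁻¹ ∧ ψ u 0 = ω m)
    (hnw : ∃ u, gam ψ NT nw = u * t₀ * u⁻¹ ∧ ψ u 0 = ω nw)
    (hchk : stepChk NT kk n Lmax ω prev nw moves r = true)
    (t : G) (ht : ∃ g, t = g * t₀ * g⁻¹)
    (hcomm : ∀ m ∈ prev, (gam ψ NT m * t = t * gam ψ NT m ↔
      gam ψ NT m * gam ψ NT nw = gam ψ NT nw * gam ψ NT m))
    (hne : ∀ m ∈ prev, t ≠ gam ψ NT m) :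
    ∃ h : G, (∀ m ∈ prev, h * gam ψ NT m * h⁻¹ = gam ψ NT m) ∧ h * t * h⁻¹ = gam ψ NT nw := by
  obtain ⟨g, rfl⟩ := ht
  obtain ⟨u, hu, hu0⟩ := hnw
  unfold stepChk at hchk
  rw [Bool.and_eq_true, List.all_eq_true] at hchk
  obtain ⟨hmv, hsub⟩ := hchk
  have hp : ψ g 0 < 2 ^ kk := lt_of_lt_of_le (hlt g) hn
  have hq : ω nw < 2 ^ kk := by rw [← hu0]; exact lt_of_lt_of_le (hlt u) hn
  have hψγ : ∀ m ∈ prev, ψ (gam ψ NT m) = wordPerm NT [m] := fun m hm => by
    rw [wordPerm_single]; exact psi_gam ψ NT m (hrange m (hprev m hm).1)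
  have hbit : (candMask NT kk ω (ω nw) prev (ivl 0 n)).testBit (ψ g 0) = true := by
    apply candMask_testBit NT kk hNT ω _ _ hq hp
    · exact (ivl_testBit 0 n _).2 ⟨Nat.zero_le _, by have := hlt g; omega⟩
    · intro m hm
      constructor
      · have h1 := comm_iff_fix ψ t₀ hdict (gam ψ NT m) g
        have h2 := comm_iff_fix ψ t₀ hdict (gam ψ NT m) u
        rw [← hu, hu0, hψγ m hm] at h2
        rw [hψγ m hm] at h1
        rw [not_iff_not, ← h1, ← h2]
        exact hcomm m hm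
      · intro e
        obtain ⟨um, hum, hum0⟩ := (hprev m hm).2
        apply hne m hm
        rw [hum]
        exact (conj_eq_iff ψ t₀ hdict g um).2 (by rw [e, hum0])
  have hM : (grow NT moves r (2 ^ (ω nw))).testBit (ψ g 0) = true := by
    have h1 : candMask NT kk ω (ω nw) prev (ivl 0 n) &&& grow NT moves r (2 ^ (ω nw)) =
        candMask NT kk ω (ω nw) prev (ivl 0 n) := Nat.eq_of_beq_eq_true hsub
    have h2 := congrArg (fun x => Nat.testBit x (ψ g 0)) h1
    simp only [Nat.testBit_and, hbit, Bool.true_and] at h2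
    exact h2
  let A : Subgroup G := Subgroup.centralizer {y | ∃ m ∈ prev, y = gam ψ NT m}
  have hreach : ∃ h ∈ A, ψ h (ω nw) = ψ g 0 := by
    refine grow_spec _ NT hNT (fun p => ∃ h ∈ A, ψ h (ω nw) = p) moves ?_ r (2 ^ (ω nw)) ?_ _ hM
    · rintro w hw p ⟨h, hh, e⟩
      have h3 := hmv w hw
      rw [Bool.and_eq_true, List.all_eq_true, List.all_eq_true] at h3
      have hwl : ∀ l ∈ w, l < Lmax := fun l hl => of_decide_eq_true (h3.1 l hl)
      have hψw := psi_wd ψ NT Lmax hrange w hwl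
      have hwA : (w.map (gam ψ NT)).prod ∈ A := by
        rw [Subgroup.mem_centralizer_iff]
        rintro _ ⟨m, hm, rfl⟩
        obtain ⟨um, hum, hum0⟩ := (hprev m hm).2
        rw [hum]
        apply ((comm_iff_fix ψ t₀ hdict _ um).2 _).symm
        rw [hum0, hψw]
        exact wordPerm_valS _ NT hNT w _ _ (h3.2 m hm)
      refine ⟨((w.map (gam ψ NT)).prod)⁻¹ * h, A.mul_mem (A.inv_mem hwA) hh, ?_⟩
      rw [map_mul, Equiv.Perm.mul_apply, e, map_inv, hψw]
      simp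
    · intro p hp'
      rw [Nat.testBit_two_pow] at hp'
      have : ω nw = p := by simpa using hp'
      subst this
      exact ⟨1, A.one_mem, by simp⟩
  obtain ⟨h, hhA, hh⟩ := hreach
  refine ⟨h⁻¹, ?_, ?_⟩
  · intro m hm
    have h1 := (Subgroup.mem_centralizer_iff.1 hhA) (gam ψ NT m) ⟨m, hm, rfl⟩
    rw [inv_inv, mul_assoc, h1, inv_mul_cancel_left]
  · rw [hu]
    have h1 : h⁻¹ * (g * t₀ * g⁻¹) * h⁻¹⁻¹ = (h⁻¹ * g) * t₀ * (h⁻¹ * g)⁻¹ := by group
    rw [h1]
    apply (conj_eq_iff ψ t₀ hdict _ u).2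
    rw [map_mul, Equiv.Perm.mul_apply, ← hh, map_inv, hu0]
    simp

theorem extend (tup : ℕ → G) (prev : List ℕ) (nw : ℕ) (moves : List (List ℕ)) (r : ℕ)
    (hprev : ∀ m ∈ prev, m < Lmax ∧ ∃ u, gam ψ NT m = u * t₀ * u⁻¹ ∧ ψ u 0 = ω m)
    (hnw : ∃ u, gam ψ NT nw = u * t₀ * u⁻¹ ∧ ψ u 0 = ω nw)
    (hchk : stepChk NT kk n Lmax ω prev nw moves r = true)
    (hP : ∃ g, ∀ m ∈ prev, g * tup m * g⁻¹ = gam ψ NT m)
    (htD : ∃ g, tup nw = g * t₀ * g⁻¹)
    (hrel : ∀ m ∈ prev, (tup m * tup nw = tup nw * tup m ↔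
      gam ψ NT m * gam ψ NT nw = gam ψ NT nw * gam ψ NT m))
    (hne : ∀ m ∈ prev, tup nw ≠ tup m) :
    ∃ g, ∀ m ∈ nw :: prev, g * tup m * g⁻¹ = gam ψ NT m := by
  obtain ⟨g, hg⟩ := hP
  obtain ⟨g0, hg0⟩ := htD
  obtain ⟨h, h1, h2⟩ := step ψ t₀ hdict NT kk hNT Lmax hrange n hn hlt ω prev nw moves r hprev hnw hchk
    (g * tup nw * g⁻¹) ⟨g * g0, by rw [hg0]; group⟩
    (by
      intro m hm
      rw [← hrel m hm, ← hg m hm]
      constructor
      · intro e
        have e2 : g * (tup m * tup nw) * g⁻¹ = g * (tup nw * tup m) * g⁻¹ := by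
          calc g * (tup m * tup nw) * g⁻¹ = g * tup m * g⁻¹ * (g * tup nw * g⁻¹) := by group
            _ = g * tup nw * g⁻¹ * (g * tup m * g⁻¹) := e
            _ = _ := by group
        exact mul_left_cancel (mul_right_cancel e2)
      · intro e
        calc g * tup m * g⁻¹ * (g * tup nw * g⁻¹) = g * (tup m * tup nw) * g⁻¹ := by group
          _ = g * (tup nw * tup m) * g⁻¹ := by rw [e]
          _ = _ := by group)
    (by
      intro m hm e
      rw [← hg m hm] at e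
      exact hne m hm (mul_left_cancel (mul_right_cancel e)))
  refine ⟨h * g, ?_⟩
  intro m hm
  rcases List.mem_cons.1 hm with rfl | hm
  · rw [← h2]; group
  · rw [← h1 m hm, ← hg m hm]; group

end

end Cfsg.Agent.Lib.Helper11.Out
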