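import Cfsg.Agent.Lib.Helper11.Out.Rigid

/-!
# A level with two orbits
-/

set_option autoImplicit false

namespace Cfsg.Agent.Lib.Helper11.Out

open Cfsg.Agent.Lib.Helper11 Cfsg.Agent.Lib.Helper11.SylEA

/-- the check of one level with two seeds -/
noncomputable def stepChk2 (NT : ℕ → List (ℕ × ℕ)) (kk n Lmax : ℕ) (ω : ℕ → ℕ) (prev : List ℕ)
    (nw s2 : ℕ) (moves : List (List ℕ)) (r : ℕ) : Bool :=
  moves.all (fun w => w.all (fun l => decide (l < Lmax)) &&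
    prev.all (fun m => Nat.beq (applyWord NT w (Nat.pow 2 (ω m))) (Nat.pow 2 (ω m)))) &&
  (fun V : ℕ => Nat.beq (Nat.land V (grow NT moves r (Nat.lor (Nat.pow 2 (ω nw)) (Nat.pow 2 s2)))) V)
    (candMask NT kk ω (ω nw) prev (ivl 0 n))

section

variable {G : Type*} [Group G] (ψ : G →* Equiv.Perm ℕ) (t₀ : G)
  (hdict : ∀ g, ψ g 0 = 0 ↔ g * t₀ = t₀ * g)
  (NT : ℕ → List (ℕ × ℕ)) (kk : ℕ)
  (hNT : ∀ l, ∀ st ∈ NT l, stOK (2 ^ (2 ^ kk)) st = true)
  (Lmax : ℕ) (hrange : ∀ l < Lmax, netPerm (NT l) ∈ ψ.range)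
  (n : ℕ) (hn : n ≤ 2 ^ kk) (hlt : ∀ g : G, ψ g 0 < n) (ω : ℕ → ℕ)

include hdict hNT hrange hn hlt

theorem step2 (prev : List ℕ) (nw s2 : ℕ) (moves : List (List ℕ)) (r : ℕ)
    (hprev : ∀ m ∈ prev, m < Lmax ∧ ∃ u, gam ψ NT m = u * t₀ * u⁻¹ ∧ ψ u 0 = ω m)
    (hnw : ∃ u, gam ψ NT nw = u * t₀ * u⁻¹ ∧ ψ u 0 = ω nw)
    (e2 : G) (he2 : ∃ u, e2 = u * t₀ * u⁻¹ ∧ ψ u 0 = s2)
    (hchk : stepChk2 NT kk n Lmax ω prev nw s2 moves r = true)
    (t : G) (ht : ∃ g, t = g * t₀ * g⁻¹)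
    (hcomm : ∀ m ∈ prev, (gam ψ NT m * t = t * gam ψ NT m ↔
      gam ψ NT m * gam ψ NT nw = gam ψ NT nw * gam ψ NT m))
    (hne : ∀ m ∈ prev, t ≠ gam ψ NT m) :
    ∃ h : G, (∀ m ∈ prev, h * gam ψ NT m * h⁻¹ = gam ψ NT m) ∧
      (h * t * h⁻¹ = gam ψ NT nw ∨ h * t * h⁻¹ = e2) := by
  obtain ⟨g, rfl⟩ := ht
  obtain ⟨u, hu, hu0⟩ := hnw
  obtain ⟨u2, hu2, hu20⟩ := he2
  unfold stepChk2 at hchk
  rw [Bool.and_eq_true, List.all_eq_true] at hchk
  obtain ⟨hmv, hsub⟩ := hchk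
  have hp : ψ g 0 < 2 ^ kk := lt_of_lt_of_le (hlt g) hn
  have hq : ω nw < 2 ^ kk := by rw [← hu0]; exact lt_of_lt_of_le (hlt u) hn
  have hψγ : ∀ m ∈ prev, ψ (gam ψ NT m) = wordPerm NT [m] := fun m hm => by
    rw [wordPerm_single]; exact psi_gam ψ NT m (hrange m (hprev m hm).1)
  have hbit : (candMask NT kk ω (ω nw) prev (ivl 0 n)).testBit (ψ g 0) = true := by
    apply candMask_testBit NT kk hNT ω _ _ hq hp
    · exact (ivl_testBit 0 n _).2 ⟨Nat.zero_le _, by have := hlt g; omega⟩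
    · intro m hm
      constructor
      · have h1 := comm_iff_fix ψ t₀ hdict (gam ψ NT m) g
        have h2 := comm_iff_fix ψ t₀ hdict (gam ψ NT m) u
        rw [← hu, hu0, hψγ m hm] at h2
        rw [hψγ m hm] at h1
        rw [not_iff_not, ← h1, ← h2]
        exact hcomm m hm
      · intro e
        obtain ⟨um, hum, hum0⟩ := (hprev m hm).2
        apply hne m hm
        rw [hum]
        exact (conj_eq_iff ψ t₀ hdict g um).2 (by rw [e, hum0])
  have hM : (grow NT moves r (2 ^ (ω nw) ||| 2 ^ s2)).testBit (ψ g 0) = true := by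
    have h1 : candMask NT kk ω (ω nw) prev (ivl 0 n) &&& grow NT moves r (2 ^ (ω nw) ||| 2 ^ s2) =
        candMask NT kk ω (ω nw) prev (ivl 0 n) := Nat.eq_of_beq_eq_true hsub
    have h2 := congrArg (fun x => Nat.testBit x (ψ g 0)) h1
    simp only [Nat.testBit_and, hbit, Bool.true_and] at h2
    exact h2
  let A : Subgroup G := Subgroup.centralizer {y | ∃ m ∈ prev, y = gam ψ NT m}
  have hreach : ∃ h ∈ A, ψ h (ω nw) = ψ g 0 ∨ ψ h s2 = ψ g 0 := by
    refine grow_spec _ NT hNT (fun p => ∃ h ∈ A, ψ h (ω nw) = p ∨ ψ h s2 = p) moves ?_ r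
      (2 ^ (ω nw) ||| 2 ^ s2) ?_ _ hM
    · rintro w hw p ⟨h, hh, e⟩
      have h3 := hmv w hw
      rw [Bool.and_eq_true, List.all_eq_true, List.all_eq_true] at h3
      have hwl : ∀ l ∈ w, l < Lmax := fun l hl => of_decide_eq_true (h3.1 l hl)
      have hψw := psi_wd ψ NT Lmax hrange w hwl
      have hwA : (w.map (gam ψ NT)).prod ∈ A := by
        rw [Subgroup.mem_centralizer_iff]
        rintro _ ⟨m, hm, rfl⟩
        obtain ⟨um, hum, hum0⟩ := (hprev m hm).2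
        rw [hum]
        apply ((comm_iff_fix ψ t₀ hdict _ um).2 _).symm
        rw [hum0, hψw]
        exact wordPerm_valS _ NT hNT w _ _ (h3.2 m hm)
      refine ⟨((w.map (gam ψ NT)).prod)⁻¹ * h, A.mul_mem (A.inv_mem hwA) hh, ?_⟩
      rcases e with e | e
      · left
        rw [map_mul, Equiv.Perm.mul_apply, e, map_inv, hψw]
        simp
      · right
        rw [map_mul, Equiv.Perm.mul_apply, e, map_inv, hψw]
        simp
    · intro p hp'
      rw [Nat.testBit_or, Bool.or_eq_true, Nat.testBit_two_pow, Nat.testBit_two_pow] at hp'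
      rcases hp' with hp' | hp'
      · have : ω nw = p := by simpa using hp'
        subst this
        exact ⟨1, A.one_mem, Or.inl (by simp)⟩
      · have : s2 = p := by simpa using hp'
        subst this
        exact ⟨1, A.one_mem, Or.inr (by simp)⟩
  obtain ⟨h, hhA, hh⟩ := hreach
  refine ⟨h⁻¹, ?_, ?_⟩
  · intro m hm
    have h1 := (Subgroup.mem_centralizer_iff.1 hhA) (gam ψ NT m) ⟨m, hm, rfl⟩
    rw [inv_inv, mul_assoc, h1, inv_mul_cancel_left]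
  · have h1 : h⁻¹ * (g * t₀ * g⁻¹) * h⁻¹⁻¹ = (h⁻¹ * g) * t₀ * (h⁻¹ * g)⁻¹ := by group
    rw [h1]
    rcases hh with hh | hh
    · left
      rw [hu]
      apply (conj_eq_iff ψ t₀ hdict _ u).2
      rw [map_mul, Equiv.Perm.mul_apply, ← hh, map_inv, hu0]
      simp
    · right
      rw [hu2]
      apply (conj_eq_iff ψ t₀ hdict _ u2).2
      rw [map_mul, Equiv.Perm.mul_apply, ← hh, map_inv, hu20]
      simp

theorem extend2 (tup : ℕ → G) (prev : List ℕ) (nw s2 : ℕ) (moves : List (List ℕ)) (r : ℕ)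
    (hprev : ∀ m ∈ prev, m < Lmax ∧ ∃ u, gam ψ NT m = u * t₀ * u⁻¹ ∧ ψ u 0 = ω m)
    (hnw : ∃ u, gam ψ NT nw = u * t₀ * u⁻¹ ∧ ψ u 0 = ω nw)
    (e2 : G) (he2 : ∃ u, e2 = u * t₀ * u⁻¹ ∧ ψ u 0 = s2)
    (hchk : stepChk2 NT kk n Lmax ω prev nw s2 moves r = true)
    (hP : ∃ g, ∀ m ∈ prev, g * tup m * g⁻¹ = gam ψ NT m)
    (htD : ∃ g, tup nw = g * t₀ * g⁻¹)
    (hrel : ∀ m ∈ prev, (tup m * tup nw = tup nw * tup m ↔
      gam ψ NT m * gam ψ NT nw = gam ψ NT nw * gam ψ NT m))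
    (hne : ∀ m ∈ prev, tup nw ≠ tup m) :
    ∃ g, (∀ m ∈ prev, g * tup m * g⁻¹ = gam ψ NT m) ∧
      (g * tup nw * g⁻¹ = gam ψ NT nw ∨ g * tup nw * g⁻¹ = e2) := by
  obtain ⟨g, hg⟩ := hP
  obtain ⟨g0, hg0⟩ := htD
  obtain ⟨h, h1, h2⟩ := step2 ψ t₀ hdict NT kk hNT Lmax hrange n hn hlt ω prev nw s2 moves r hprev hnw
    e2 he2 hchk (g * tup nw * g⁻¹) ⟨g * g0, by rw [hg0]; group⟩
    (by
      intro m hm
      rw [← hrel m hm, ← hg m hm]
      constructor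
      · intro e
        have e2 : g * (tup m * tup nw) * g⁻¹ = g * (tup nw * tup m) * g⁻¹ := by
          calc g * (tup m * tup nw) * g⁻¹ = g * tup m * g⁻¹ * (g * tup nw * g⁻¹) := by group
            _ = g * tup nw * g⁻¹ * (g * tup m * g⁻¹) := e
            _ = _ := by group
        exact mul_left_cancel (mul_right_cancel e2)
      · intro e
        calc g * tup m * g⁻¹ * (g * tup nw * g⁻¹) = g * (tup m * tup nw) * g⁻¹ := by group
          _ = g * (tup nw * tup m) * g⁻¹ := by rw [e]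
          _ = _ := by group)
    (by
      intro m hm e
      rw [← hg m hm] at e
      exact hne m hm (mul_left_cancel (mul_right_cancel e)))
  refine ⟨h * g, ?_, ?_⟩
  · intro m hm
    rw [← h1 m hm, ← hg m hm]; group
  · rcases h2 with h2 | h2
    · left; rw [← h2]; group
    · right; rw [← h2]; group

end

end Cfsg.Agent.Lib.Helper11.Out
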